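import Cfsg.Agent.MathieuBlock.Check
set_option autoImplicit false
set_option maxRecDepth 20000

/-!
Certificate data for the 2-block of M22 (found by a computer search, checked by the kernel).
-/

namespace CfsgLib.MathieuBlock.D22

open CfsgLib.Golay CfsgLib.MathieuTwo

/-- Chunk. -/
def row1Part0 : List V := [.conj 1 [0, 22, 43, 63], .conj 4 [0, 29, 49, 77], .conj 0 [7, 23, 52, 79], .conj 4 [3, 37, 62, 74], .conj 2 [5, 33, 49, 92], .conj 3 [4, 38, 62, 72], .conj 1 [0, 42, 54, 92], .conj 4 [5, 27, 45, 110], .conj 0 [3, 25, 46, 72], .conj 0 [3, 25, 46, 82], .conj 0 [0, 22, 51, 99], .conj 4 [5, 27, 45, 64], .conj 4 [5, 27, 45, 87], .conj 3 [0, 36, 48, 63], .even 1 4, .conj 5 [0, 35, 43, 65], .conj 3 [7, 34, 53, 67], .conj 4 [5, 38, 58, 85], .conj 4 [0, 29, 49, 102], .conj 0 [3, 25, 46, 86], .conj 4 [5, 38, 58, 96], .conj 5 [0, 35, 43, 109], .conj 3 [7,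 34, 53, 99], .even 1 4, .conj 4 [0, 29, 49, 79], .conj 0 [0, 22, 51, 71], .conj 0 [0, 22, 51, 67], .conj 3 [0, 36, 48, 88], .conj 3 [0, 36, 48, 95], .conj 3 [4, 38, 62, 82], .conj 3 [7, 34, 53, 71], .conj 2 [5, 33, 49, 78], .even 1 4, .conj 4 [3, 37, 62, 97], .conj 5 [0, 35, 43, 93], .conj 0 [7, 23, 52, 77], .conj 3 [4, 38, 62, 86], .conj 2 [5, 33, 49, 103], .conj 4 [3, 37, 62, 84], .conj 4 [5, 38, 58, 83], .conj 0 [7, 23, 52, 102], .conj 0 [3, 37, 49, 71], .conj 3 [4, 25, 43, 69], .conj 3 [0, 23, 55, 91], .even 1 4, .conj 2 [5, 27, 47, 106], .conj 2 [5, 27, 47, 101], .conj 5 [0, 23, 49, 64], .conj 5 [0, 23, 49, 110], .conj 4 [5, 38, 54, 69], .conj 3 [4, 25, 43, 101], .conj 4 [5, 38, 58, 100], .conj 4 [5, 38, 54, 101], .conj 0 [3, 37, 49, 99], .conj 4 [3, 33, 46, 69], .conj 0 [0, 23, 62, 88], .conj 4 [0, 23, 53, 101], .conj 4 [3, 33, 46, 106], .conj 1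 [0, 23, 53, 101], .even 1 4, .conj 4 [3, 33, 46, 101], .conj 4 [5, 38, 58, 66], .even 1 4, .conj 3 [7, 35, 46, 75], .conj 0 [7, 32, 62, 100], .conj 3 [7, 35, 46, 91], .conj 3 [4, 25, 43, 106], .conj 0 [0, 23, 62, 63], .conj 0 [3, 37, 49, 67], .conj 5 [0, 23, 49, 87], .conj 4 [0, 23, 53, 69], .conj 4 [0, 23, 53, 106], .conj 2 [5, 27, 47, 69], .conj 0 [7, 32, 62, 66], .conj 0 [0, 23, 62, 95], .conj 3 [7, 35, 46, 104], .conj 3 [0, 23, 55, 104], .conj 0 [7, 32, 62, 107], .conj 4 [5, 38, 54, 106], .conj 4 [5, 38, 58, 107], .conj 3 [0, 23, 55, 75], .conj 5 [0, 22, 52, 77], .conj 4 [14, 36, 44, 69], .conj 3 [7, 30, 48, 105], .conj 0 [0, 40, 57, 91], .conj 4 [3, 25, 49, 89], .conj 0 [0, 34, 57, 99], .conj 3 [7, 42, 49, 83], .conj 4 [5, 27, 45, 99], .conj 3 [7, 42, 49, 85], .conj 3 [7, 41, 50, 84], .conj 3 [7, 41, 50, 97], .conj 4 [3, 25, 49, 108], .conj 0 [0,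 34, 57, 67], .conj 4 [5, 38, 54, 72], .conj 2 [5, 25, 43, 92], .conj 0 [0, 29, 56, 66], .even 1 4, .conj 3 [7, 42, 49, 96], .conj 3 [7, 41, 50, 74]]

/-- Chunk. -/
def row1Part1 : List V := [.even 1 4, .conj 0 [0, 29, 56, 107], .conj 2 [5, 25, 43, 103], .conj 4 [5, 38, 54, 86], .conj 4 [5, 27, 45, 67], .conj 4 [5, 27, 45, 71], .conj 4 [3, 25, 49, 94], .conj 1 [21, 35, 50, 92], .conj 0 [0, 34, 57, 71], .conj 5 [0, 22, 52, 102], .conj 4 [14, 36, 44, 106], .even 1 4, .conj 5 [0, 22, 52, 79], .conj 0 [0, 40, 57, 104], .conj 2 [5, 25, 43, 78], .conj 0 [0, 29, 56, 100], .conj 3 [7, 30, 48, 68], .conj 0 [0, 40, 57, 75], .conj 4 [5, 38, 54, 82], .conj 3 [7, 30, 48, 70], .conj 4 [14, 36, 44, 101], .conj 1 [4, 40, 43, 101], .even 1 4, .conj 4 [13, 42, 61, 89], .even 1 8, .conj 4 [5, 40, 61, 92], .conj 0 [0, 29, 56, 83], .conj 4 [3, 25, 49, 69], .conj 4 [0, 22,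 57, 90], .conj 4 [0, 22, 57, 95], .conj 2 [5, 25, 43, 81], .conj 4 [14, 42, 51, 95], .conj 3 [7, 42, 56, 71], .conj 4 [3, 28, 59, 77], .conj 5 [0, 22, 52, 101], .even 1 2, .conj 4 [13, 42, 61, 102], .conj 4 [14, 29, 50, 101], .conj 1 [0, 25, 45, 81], .conj 2 [5, 27, 47, 79], .even 1 8, .conj 3 [4, 25, 43, 86], .conj 1 [3, 32, 44, 88], .conj 4 [3, 42, 45, 71], .conj 4 [6, 23, 59, 64], .conj 4 [14, 40, 60, 90], .even 4 6, .conj 4 [14, 22, 49, 67], .conj 0 [0, 31, 49, 108], .conj 0 [3, 25, 46, 69], .conj 3 [7, 42, 49, 66], .even 1 8, .even 1 8, .conj 4 [0, 22, 57, 85], .conj 4 [3, 25, 49, 79], .conj 4 [3, 33, 46, 82], .conj 5 [0, 35, 43, 92], .even 2 2, .conj 1 [3, 29, 53, 88], .conj 4 [5, 40, 61, 73], .conj 4 [3, 37, 62, 110], .conj 4 [0, 22, 51, 76], .conj 0 [0, 31, 49, 86], .conj 0 [0, 22, 51, 110], .conj 2 [5, 25, 43, 68], .conj 3 [7, 42, 49, 76], .conj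 4 [5, 36, 49, 93], .even 1 4, .conj 0 [0, 22, 43, 87], .conj 0 [0, 29, 56, 90], .conj 0 [0, 22, 62, 106], .conj 4 [5, 36, 49, 103], .conj 4 [3, 42, 60, 78], .conj 3 [0, 36, 48, 90], .conj 3 [7, 30, 48, 98], .conj 4 [3, 42, 45, 75], .conj 4 [3, 28, 59, 69], .conj 1 [3, 33, 50, 89], .conj 4 [0, 26, 45, 103], .conj 0 [7, 23, 52, 106], .conj 5 [0, 22, 52, 86], .conj 4 [3, 31, 43, 66], .conj 3 [7, 22, 58, 78], .conj 0 [0, 23, 62, 66], .conj 2 [5, 27, 47, 89], .even 1 4, .conj 3 [7, 35, 46, 84], .conj 4 [0, 22, 51, 66], .conj 3 [0, 23, 55, 84], .conj 3 [7, 34, 53, 110], .conj 5 [0, 23, 49, 84], .even 1 4, .conj 4 [13, 42, 61, 86], .conj 5 [0, 35, 43, 105], .conj 0 [0, 34, 57, 75], .conj 3 [7, 42, 56, 110], .conj 2 [5, 33, 49, 73], .conj 3 [7, 42, 52, 101], .conj 4 [0, 26, 45, 81], .conj 4 [3, 35, 50, 97]]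

/-- Chunk. -/
def row1Part2 : List V := [.conj 0 [7, 32, 62, 85], .conj 3 [7, 41, 50, 75], .conj 3 [7, 34, 53, 91], .even 1 4, .conj 3 [7, 42, 52, 89], .conj 3 [7, 42, 56, 84], .conj 3 [4, 25, 43, 102], .conj 3 [7, 22, 58, 68], .conj 0 [0, 23, 62, 80], .even 1 4, .even 4 6, .conj 3 [0, 23, 55, 71], .even 1 2, .conj 0 [0, 31, 49, 77], .conj 0 [7, 23, 52, 72], .conj 0 [0, 40, 57, 84], .even 1 4, .even 1 4, .conj 1 [0, 22, 43, 65], .conj 3 [7, 35, 46, 99], .conj 3 [4, 38, 62, 77], .conj 0 [3, 25, 46, 77], .conj 0 [7, 32, 62, 76], .even 2 2, .conj 0 [0, 22, 62, 86], .even 1 4, .conj 3 [7, 42, 49, 95], .even 1 2, .even 1 2, .conj 0 [0, 22, 51, 84], .conj 3 [7, 30, 48, 65], .conj 0 [0, 29, 56, 63], .even 4 6, .even 4 6, .conj 0 [3, 37, 49, 75], .conj 3 [0, 36, 48, 100], .even 1 2, .conj 0 [0, 22, 43, 74], .even 1 4, .even 1 2, .conj 0 [0, 34, 57, 64], .even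 1 4, .even 1 8, .even 1 8, .even 1 4, .even 1 8, .even 1 4, .even 1 8, .even 1 8, .even 1 4, .even 1 4, .even 1 4, .even 1 8, .even 1 8, .even 1 4, .even 1 4, .even 1 4, .even 1 4, .even 2 2, .even 1 8, .even 4 6, .even 4 6, .even 1 4, .even 1 4, .even 1 4, .even 1 4, .even 1 2, .even 4 6, .even 4 6, .even 1 4, .even 1 8, .even 1 8, .even 1 8, .even 1 8, .even 1 2, .even 1 4, .even 1 4, .even 1 4, .even 1 2, .even 1 4, .even 1 4, .even 1 8, .even 1 8, .even 1 4, .even 4 2, .even 1 4, .even 1 4, .even 1 2, .even 1 8, .even 1 8, .even 1 4, .even 1 4, .even 4 6, .even 1 8, .even 4 6, .even 1 4, .even 1 4, .even 1 4, .even 1 2, .even 1 8]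

/-- Chunk. -/
def row1Part3 : List V := [.even 1 4, .even 1 8, .even 1 8, .even 1 4, .even 1 4, .even 1 4, .even 1 2, .even 1 4, .even 4 6, .even 1 4, .even 1 4, .even 1 4, .even 1 8, .even 1 8, .even 1 4, .even 1 4, .even 1 8, .even 1 8, .even 1 4, .even 2 2, .even 1 4, .even 1 4, .conj 0 [0, 29, 56, 95], .conj 0 [3, 25, 46, 79], .even 1 4, .even 1 2, .conj 3 [7, 35, 46, 71], .even 4 6, .even 1 4, .conj 0 [7, 32, 62, 90], .conj 0 [0, 31, 49, 79], .conj 0 [3, 37, 49, 104], .conj 3 [0, 23, 55, 67], .conj 3 [7, 41, 50, 104], .even 1 2, .conj 3 [7, 42, 56, 74], .even 1 2, .conj 0 [0, 40, 57, 74], .conj 0 [0, 22, 51, 74], .conj 0 [0, 23, 62, 76], .even 1 4, .conj 3 [7, 30, 48, 109], .conj 3 [7, 22, 58, 70], .even 1 2, .conj 3 [4, 38, 62, 79], .conj 0 [0, 22, 62, 82], .conj 1 [0, 22, 43, 69], .conj 0 [0, 22, 43, 97], .even 1 4, .conj 0 [7, 23, 52, 86], .conj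 3 [7, 42, 49, 88], .conj 3 [7, 42, 52, 94], .conj 0 [0, 34, 57, 87], .even 4 6, .even 4 2, .even 2 2, .conj 3 [4, 25, 43, 77], .conj 3 [7, 34, 53, 75], .conj 3 [0, 36, 48, 66], .even 1 2, .even 1 4, .conj 1 [3, 32, 44, 76], .conj 4 [3, 41, 55, 85], .conj 4 [0, 29, 49, 72], .conj 4 [0, 22, 43, 85], .conj 4 [3, 42, 60, 109], .conj 4 [14, 36, 44, 77], .conj 2 [5, 33, 49, 109], .conj 3 [7, 22, 58, 98], .conj 4 [14, 40, 60, 95], .even 1 8, .even 4 6, .conj 0 [3, 37, 49, 110], .conj 2 [5, 25, 43, 93], .conj 4 [3, 35, 50, 67], .conj 4 [0, 22, 43, 95], .even 1 8, .conj 4 [14, 22, 49, 84], .conj 4 [3, 28, 59, 82], .conj 4 [5, 31, 58, 109], .conj 4 [14, 29, 50, 94], .even 1 8, .even 1 4, .even 1 8, .conj 1 [3, 39, 47, 77], .conj 1 [0, 24, 48, 110], .conj 4 [0, 29, 49, 101], .conj 4 [3, 41, 55, 63], .even 1 2, .conj 3 [7, 34, 53, 84], .conj 4 [6, 23, 59, 99], .even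 1 4, .conj 4 [0, 22, 43, 90], .conj 0 [0, 22, 62, 94], .conj 5 [0, 35, 43, 98], .conj 0 [0, 22, 51, 75], .conj 3 [7, 41, 50, 87], .conj 5 [0, 23, 49, 67], .conj 4 [3, 33, 46, 108], .conj 1 [4, 34, 56, 67]]

/-- Chunk. -/
def row1Part4 : List V := [.conj 4 [3, 35, 50, 75], .conj 0 [7, 32, 62, 80], .even 1 4, .conj 3 [7, 41, 50, 91], .even 1 2, .conj 0 [3, 25, 46, 102], .conj 3 [0, 23, 55, 99], .conj 0 [0, 31, 49, 102], .conj 0 [0, 34, 57, 110], .even 1 4, .even 2 2, .even 1 2, .even 1 2, .even 4 6, .conj 3 [4, 38, 62, 102], .conj 3 [7, 34, 53, 104], .conj 3 [7, 42, 52, 108], .even 1 4, .conj 0 [0, 22, 43, 84], .even 1 4, .conj 0 [0, 40, 57, 97], .even 4 6, .conj 3 [0, 36, 48, 107], .conj 0 [0, 29, 56, 88], .conj 3 [7, 22, 58, 105], .even 1 4, .even 1 2, .conj 1 [0, 22, 43, 64], .even 4 6, .conj 3 [4, 25, 43, 79], .conj 0 [3, 37, 49, 91], .conj 3 [7, 35,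 46, 67], .conj 0 [0, 23, 62, 90], .conj 3 [7, 42, 49, 63], .conj 0 [0, 22, 51, 97], .conj 3 [7, 42, 56, 97], .conj 0 [0, 22, 62, 72], .even 1 2, .conj 0 [7, 23, 52, 82], .even 1 4, .conj 3 [7, 30, 48, 93], .even 1 8, .conj 2 [5, 27, 47, 82], .conj 0 [0, 22, 43, 104], .conj 1 [0, 31, 61, 76], .conj 4 [3, 37, 62, 75], .conj 3 [7, 35, 46, 87], .even 1 8, .conj 4 [14, 42, 51, 90], .conj 4 [3, 42, 60, 81], .conj 5 [0, 22, 52, 89], .conj 4 [14, 36, 44, 82], .conj 4 [3, 42, 61, 70], .conj 4 [6, 23, 59, 74], .conj 2 [5, 33, 49, 70], .conj 4 [14, 22, 49, 110], .conj 0 [0, 40, 57, 87], .conj 4 [0, 23, 53, 77], .conj 4 [0, 23, 53, 82], .even 1 4, .conj 4 [0, 25, 54, 70], .conj 4 [0, 25, 54, 98], .even 4 2, .conj 4 [0, 25, 54, 78], .conj 1 [4, 22, 57, 81], .conj 1 [3, 36, 59, 99], .even 1 4, .conj 4 [3, 42, 61, 65], .conj 3 [4, 38, 62, 108], .conj 4 [3, 31, 43, 80],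 .conj 0 [0, 23, 62, 96], .conj 4 [14, 40, 60, 85], .even 1 8, .even 1 8, .conj 4 [3, 42, 45, 84], .even 1 2, .conj 5 [0, 23, 49, 91], .conj 3 [7, 42, 52, 72], .conj 1 [3, 29, 53, 76], .conj 4 [3, 31, 43, 85], .conj 4 [5, 31, 58, 81], .conj 3 [4, 25, 43, 82], .conj 5 [0, 35, 43, 103], .even 1 8, .conj 2 [5, 27, 47, 102], .conj 3 [7, 42, 56, 67], .even 4 2, .conj 4 [3, 25, 49, 101], .conj 4 [13, 42, 61, 94], .conj 4 [0, 22, 57, 88], .conj 4 [5, 40, 61, 81], .conj 4 [3, 33, 46, 72], .conj 4 [14, 40, 60, 80], .conj 4 [3, 28, 59, 79], .conj 4 [14, 29, 50, 106], .conj 3 [7, 42, 49, 107], .conj 0 [0, 31, 49, 89], .even 2 2, .conj 4 [6, 23, 59, 87], .conj 2 [5, 25, 43, 98]]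

/-- Chunk. -/
def row1Part5 : List V := [.conj 5 [0, 22, 52, 106], .conj 0 [3, 25, 46, 101], .even 1 8, .conj 1 [3, 32, 43, 78], .conj 1 [0, 25, 45, 77], .conj 1 [3, 25, 61, 71], .conj 1 [4, 26, 48, 63], .conj 4 [0, 22, 57, 96], .conj 0 [0, 29, 56, 85], .conj 4 [3, 37, 62, 64], .conj 4 [3, 25, 49, 102], .conj 4 [13, 42, 61, 77], .even 1 2, .conj 4 [0, 22, 57, 80], .even 1 8, .conj 4 [14, 22, 49, 99], .conj 4 [3, 42, 45, 67], .even 1 8, .conj 4 [5, 40, 61, 103], .conj 4 [14, 42, 51, 88], .even 1 4, .even 1 4, .conj 1 [3, 27, 57, 89], .even 1 4, .conj 4 [3, 31, 43, 107], .conj 4 [3, 28, 59, 101], .even 1 4, .conj 4 [3, 35, 50, 84], .conj 0 [0, 31, 49, 82], .conj 5 [0, 23, 49, 74], .conj 2 [5, 25, 43, 70], .conj 5 [0, 35, 43, 68], .conj 2 [5, 27, 47, 94], .conj 4 [5, 36, 49, 78], .conj 0 [0, 22, 43, 110], .conj 3 [7, 42, 52, 106], .conj 4 [0, 22, 51, 90],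 .conj 4 [0, 22, 51, 107], .conj 0 [7, 23, 52, 69], .conj 0 [0, 29, 56, 80], .conj 3 [7, 30, 48, 73], .conj 4 [0, 26, 45, 98], .conj 3 [7, 22, 58, 92], .conj 3 [7, 34, 53, 64], .conj 4 [13, 42, 61, 82], .conj 0 [0, 22, 62, 69], .conj 3 [7, 42, 49, 90], .conj 3 [7, 42, 56, 64], .conj 0 [0, 22, 51, 64], .conj 3 [7, 35, 46, 74], .conj 3 [0, 23, 55, 74], .conj 0 [0, 23, 62, 107], .conj 0 [7, 32, 62, 96], .conj 4 [3, 42, 45, 104], .conj 2 [5, 33, 49, 81], .conj 5 [0, 22, 52, 82], .conj 4 [3, 42, 60, 92], .conj 4 [0, 26, 45, 78], .conj 4 [5, 36, 49, 65], .conj 0 [0, 34, 57, 104], .conj 3 [0, 36, 48, 80], .conj 0 [0, 23, 62, 85], .even 1 8, .conj 4 [5, 31, 58, 73], .conj 4 [3, 42, 45, 97], .conj 4 [14, 36, 44, 86], .even 1 8, .conj 3 [7, 42, 52, 82], .conj 5 [0, 23, 49, 104], .conj 1 [3, 29, 53, 80], .conj 4 [3, 42, 61, 68], .conj 1 [3, 37, 59, 64], .conj 4 [6,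 23, 59, 84], .conj 5 [0, 22, 52, 108], .conj 4 [14, 22, 49, 87], .conj 4 [3, 42, 61, 93], .conj 1 [4, 22, 57, 103], .conj 4 [0, 23, 53, 86], .even 4 6, .conj 4 [0, 25, 54, 81], .conj 4 [0, 25, 54, 103], .conj 4 [0, 25, 54, 68], .even 1 4, .even 1 4, .conj 3 [4, 38, 62, 94], .conj 4 [3, 37, 62, 91], .conj 4 [0, 23, 53, 102], .conj 2 [5, 33, 49, 68], .conj 0 [0, 40, 57, 64], .conj 0 [0, 22, 43, 75], .even 1 8, .even 1 8, .conj 4 [14, 40, 60, 83], .conj 2 [5, 27, 47, 86], .conj 4 [3, 42, 60, 73], .conj 3 [7, 35, 46, 64], .even 1 2, .conj 4 [3, 31, 43, 83], .conj 4 [14, 42, 51, 76], .conj 1 [0, 30, 56, 103]]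

/-- Chunk. -/
def row1Part6 : List V := [.conj 4 [3, 31, 43, 90], .conj 4 [3, 25, 49, 106], .conj 4 [5, 40, 61, 98], .conj 1 [3, 32, 44, 95], .conj 4 [5, 40, 61, 78], .conj 1 [3, 29, 53, 95], .conj 5 [0, 35, 43, 78], .conj 3 [4, 25, 43, 72], .conj 4 [13, 42, 61, 108], .conj 4 [0, 22, 57, 76], .even 4 6, .even 1 8, .conj 0 [0, 31, 49, 94], .conj 5 [0, 22, 52, 69], .conj 4 [3, 37, 62, 87], .conj 4 [14, 40, 60, 76], .even 1 2, .even 1 8, .even 1 8, .conj 1 [4, 41, 58, 89], .even 1 8, .conj 4 [14, 29, 50, 69], .conj 4 [3, 25, 49, 77], .conj 4 [14, 42, 51, 63], .conj 4 [6, 23, 59, 110], .conj 4 [3, 42, 45, 99], .conj 4 [3, 28, 59, 102], .conj 4 [0, 22, 57, 83], .even 2 2, .conj 0 [0, 29, 56, 96], .conj 2 [5, 27, 47, 77], .conj 3 [7, 42, 49, 100], .even 1 4, .conj 2 [5, 25, 43, 73], .conj 0 [3, 25, 46, 106], .conj 4 [0, 22, 57, 63], .conj 3 [7, 42, 56, 99],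 .conj 4 [14, 22, 49, 71], .conj 4 [13, 42, 61, 79], .conj 1 [0, 25, 45, 103], .conj 4 [3, 33, 46, 86], .conj 3 [7, 42, 49, 80], .conj 3 [7, 22, 58, 103], .conj 4 [0, 22, 51, 100], .conj 5 [0, 23, 49, 97], .even 1 4, .conj 0 [0, 23, 62, 100], .conj 4 [0, 22, 51, 80], .conj 2 [5, 33, 49, 98], .conj 3 [7, 30, 48, 81], .conj 4 [3, 31, 43, 100], .conj 0 [0, 31, 49, 72], .conj 4 [0, 26, 45, 73], .conj 3 [7, 42, 56, 87], .conj 3 [7, 34, 53, 87], .conj 3 [7, 42, 52, 69], .conj 4 [5, 36, 49, 109], .conj 0 [0, 34, 57, 91], .conj 1 [3, 27, 57, 94], .conj 3 [7, 35, 46, 97], .conj 4 [3, 28, 59, 106], .conj 0 [7, 23, 52, 101], .conj 4 [3, 42, 45, 91], .conj 4 [3, 42, 60, 103], .conj 5 [0, 35, 43, 70], .conj 4 [0, 26, 45, 92], .conj 0 [0, 22, 51, 87], .even 1 4, .conj 0 [7, 32, 62, 83], .conj 0 [0, 29, 56, 76], .conj 4 [3, 35, 50, 74], .even 1 4, .conj 2 [5, 27, 47,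 108], .conj 5 [0, 22, 52, 72], .conj 0 [0, 22, 62, 101], .conj 0 [0, 22, 43, 64], .conj 2 [5, 25, 43, 105], .conj 3 [0, 36, 48, 76], .conj 4 [5, 36, 49, 92], .conj 3 [0, 23, 55, 97], .conj 4 [13, 42, 61, 72], .even 1 8, .conj 2 [5, 25, 43, 65], .conj 0 [3, 37, 49, 64], .conj 4 [0, 22, 43, 96], .even 1 8, .conj 0 [0, 22, 51, 104], .conj 4 [3, 33, 46, 89], .conj 4 [3, 28, 59, 72], .conj 4 [14, 40, 60, 88], .conj 4 [14, 29, 50, 108], .conj 4 [0, 29, 49, 86], .conj 4 [0, 22, 43, 80], .conj 4 [3, 35, 50, 99], .conj 4 [3, 41, 55, 96], .even 4 6, .conj 3 [7, 41, 50, 110], .even 1 2, .conj 2 [5, 33, 49, 93], .conj 1 [4, 23, 48, 63]]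

/-- Chunk. -/
def row1Part7 : List V := [.conj 1 [3, 32, 50, 68], .conj 1 [0, 31, 61, 63], .conj 1 [3, 35, 57, 79], .conj 5 [0, 35, 43, 73], .conj 4 [14, 22, 49, 74], .conj 3 [7, 22, 58, 73], .conj 0 [0, 22, 62, 108], .conj 5 [0, 23, 49, 99], .conj 3 [7, 34, 53, 74], .conj 4 [0, 29, 49, 106], .conj 4 [14, 36, 44, 79], .even 1 8, .conj 4 [3, 42, 60, 93], .even 1 4, .conj 4 [6, 23, 59, 71], .even 1 8, .conj 4 [0, 22, 43, 88], .conj 4 [3, 35, 50, 104], .conj 4 [5, 31, 58, 93], .conj 4 [3, 41, 55, 95], .even 1 4, .conj 4 [3, 35, 50, 71], .even 1 4, .conj 1 [3, 35, 57, 102], .conj 4 [14, 22, 49, 97], .even 4 2, .conj 4 [14, 40, 60, 63], .conj 4 [6, 23, 59, 67], .conj 5 [0, 23, 49, 71], .even 1 8, .conj 0 [3, 37, 49, 87], .conj 1 [3, 32, 44, 80], .conj 4 [5, 31, 58, 65], .conj 5 [0, 35, 43, 81], .conj 4 [0, 22, 43, 76], .conj 4 [0, 22, 43, 63], .conj 1 [4,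 34, 56, 74], .conj 4 [3, 28, 59, 86], .conj 4 [14, 29, 50, 89], .conj 4 [3, 42, 60, 65], .conj 4 [3, 35, 50, 91], .conj 2 [5, 33, 49, 65], .conj 0 [0, 22, 62, 89], .even 1 8, .conj 3 [7, 34, 53, 97], .conj 4 [3, 41, 55, 88], .conj 4 [0, 29, 49, 82], .even 1 4, .conj 3 [7, 22, 58, 81], .conj 0 [0, 22, 51, 91], .conj 3 [7, 41, 50, 64], .conj 4 [0, 22, 43, 83], .even 1 8, .even 1 8, .conj 2 [5, 25, 43, 109], .even 1 2, .conj 4 [3, 33, 46, 94], .conj 4 [0, 29, 49, 69], .conj 1 [0, 24, 48, 87], .conj 4 [3, 41, 55, 83], .conj 4 [14, 36, 44, 102], .even 1 4, .even 1 8, .even 1 8, .even 1 4, .even 1 4, .even 1 4, .even 1 4, .even 1 4, .even 2 2, .even 1 8, .even 1 8, .even 1 2, .even 1 8, .even 4 6, .even 4 6, .even 1 2, .even 1 4, .even 1 4, .even 1 4, .even 1 8, .even 1 4, .even 1 4, .even 1 8, .even 1 4, .even 1 8, .even 1 4, .even 1 2, .even 1 4, .even 1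 8, .even 1 4, .even 1 4, .even 1 8, .even 4 2, .even 4 6, .even 1 8, .even 1 4, .even 1 4, .even 1 8, .even 1 4]

/-- Chunk. -/
def row1Part8 : List V := [.even 1 4, .conj 4 [3, 37, 62, 104], .conj 4 [0, 23, 53, 72], .conj 2 [5, 27, 47, 72], .conj 5 [0, 23, 49, 75], .conj 4 [0, 23, 53, 79], .conj 4 [14, 36, 44, 72], .conj 4 [0, 25, 54, 105], .conj 4 [3, 31, 43, 96], .conj 1 [0, 32, 45, 71], .even 1 8, .even 1 8, .conj 1 [3, 23, 53, 94], .even 1 8, .even 4 6, .conj 1 [4, 22, 43, 106], .even 1 4, .even 1 2, .conj 4 [14, 22, 49, 64], .conj 3 [7, 35, 46, 110], .conj 4 [3, 42, 45, 74], .conj 4 [3, 42, 60, 98], .conj 2 [5, 33, 49, 105], .conj 5 [0, 22, 52, 94], .conj 4 [6, 23, 59, 97], .even 1 8, .conj 4 [3, 31, 43, 76], .conj 0 [0, 23, 62, 83], .conj 4 [0, 25, 54, 92], .even 1 4, .conj 1 [3, 37, 59, 110], .conj 4 [14, 40, 60, 96], .conj 4 [3, 42, 61, 109],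 .conj 4 [5, 31, 58, 98], .conj 0 [0, 22, 43, 91], .conj 4 [14, 42, 51, 80], .conj 3 [7, 42, 52, 86], .conj 3 [4, 38, 62, 89], .conj 4 [3, 42, 61, 105], .conj 0 [0, 40, 57, 110], .conj 4 [0, 25, 54, 73], .conj 4 [3, 42, 61, 78], .even 1 4, .even 1 4, .conj 4 [5, 40, 61, 105], .conj 4 [3, 33, 46, 77], .conj 3 [7, 42, 56, 104], .conj 4 [14, 29, 50, 82], .conj 4 [5, 36, 49, 98], .conj 4 [0, 23, 53, 94], .even 1 2, .conj 1 [3, 37, 59, 99], .conj 1 [3, 33, 50, 72], .conj 4 [5, 31, 58, 92], .conj 0 [0, 40, 57, 71], .conj 3 [4, 38, 62, 101], .conj 4 [14, 42, 51, 83], .conj 4 [0, 26, 45, 93], .conj 4 [5, 36, 49, 68], .conj 0 [0, 34, 57, 74], .conj 3 [0, 36, 48, 83], .conj 1 [3, 29, 53, 66], .conj 1 [0, 33, 60, 68], .conj 1 [3, 26, 52, 109], .conj 1 [4, 36, 48, 83], .conj 4 [0, 23, 53, 108], .conj 4 [0, 26, 45, 105], .conj 4 [3, 41, 55, 66], .even 1 4, .even 1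 4, .conj 4 [14, 29, 50, 72], .conj 4 [3, 33, 46, 102], .conj 0 [0, 22, 62, 77], .conj 4 [3, 42, 61, 103], .conj 1 [3, 33, 50, 86], .even 1 4, .conj 1 [3, 36, 59, 64], .conj 4 [5, 27, 45, 75], .conj 3 [7, 41, 50, 99], .conj 0 [3, 37, 49, 97], .even 1 2, .conj 4 [14, 42, 51, 85], .even 1 4, .conj 4 [3, 37, 62, 71], .conj 4 [0, 22, 43, 107], .even 1 2, .conj 4 [5, 38, 58, 90], .conj 4 [14, 42, 51, 96], .conj 1 [3, 27, 57, 77], .conj 4 [5, 38, 54, 94], .even 1 4, .even 1 4, .conj 4 [14, 29, 50, 79], .conj 4 [5, 40, 61, 93], .conj 4 [3, 42, 60, 68], .conj 3 [4, 38, 62, 106], .conj 4 [14, 42, 51, 107], .conj 4 [3, 35, 50, 87], .even 1 2, .conj 1 [21, 35, 50, 81]]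

/-- Chunk. -/
def row1Part9 : List V := [.conj 1 [3, 26, 52, 105], .conj 4 [5, 38, 54, 77], .conj 4 [14, 22, 49, 75], .even 1 4, .even 1 4, .conj 4 [3, 41, 55, 80], .conj 3 [0, 36, 48, 96], .conj 4 [0, 22, 57, 107], .conj 4 [0, 22, 51, 83], .conj 4 [5, 31, 58, 105], .conj 1 [3, 33, 50, 69], .even 1 2, .conj 1 [7, 25, 49, 65], .conj 4 [3, 37, 62, 99], .conj 4 [3, 25, 49, 82], .conj 1 [3, 23, 53, 102], .conj 4 [3, 42, 45, 87], .conj 4 [14, 22, 49, 104], .conj 4 [0, 22, 57, 66], .conj 1 [0, 37, 52, 64], .conj 1 [3, 32, 43, 68], .conj 4 [13, 42, 61, 69], .conj 4 [14, 42, 51, 66], .conj 4 [5, 40, 61, 65], .conj 1 [4, 42, 49, 67], .conj 4 [0, 29, 49, 108], .conj 4 [14, 36, 44, 89], .conj 4 [3, 35, 50, 64], .conj 4 [0, 22, 43, 66], .conj 4 [6, 23, 59, 75], .conj 1 [3, 32, 50, 78], .conj 1 [4, 23, 48, 67], .conj 4 [3, 42, 60, 70], .conj 1 [0, 31, 61, 100], .conj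 4 [3, 41, 55, 76], .conj 4 [5, 31, 58, 70], .conj 1 [3, 35, 57, 89], .conj 4 [5, 38, 58, 88], .conj 4 [14, 42, 51, 100], .conj 4 [0, 22, 51, 96], .even 1 4, .even 1 4, .conj 4 [0, 22, 43, 100], .conj 4 [5, 40, 61, 109], .conj 0 [0, 34, 57, 97], .conj 4 [6, 23, 59, 104], .even 1 4, .conj 1 [0, 27, 45, 85], .conj 1 [3, 34, 60, 95], .conj 0 [7, 23, 52, 108], .conj 4 [5, 27, 45, 84], .conj 4 [5, 36, 49, 70], .even 2 2, .even 1 4, .conj 4 [3, 25, 49, 72], .conj 3 [0, 23, 55, 64], .even 1 4, .conj 4 [3, 42, 60, 105], .conj 4 [5, 36, 49, 105], .conj 4 [5, 38, 54, 102], .conj 1 [4, 36, 48, 88], .conj 0 [3, 37, 49, 84], .conj 3 [4, 25, 43, 89], .conj 4 [5, 38, 58, 76], .conj 4 [5, 38, 54, 89], .conj 4 [0, 22, 51, 95], .conj 4 [0, 22, 51, 63], .conj 3 [7, 42, 52, 79], .conj 0 [0, 22, 43, 71], .conj 1 [0, 37, 52, 95], .conj 1 [3, 36, 59, 104], .conj 1 [4, 37, 52,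 83], .conj 1 [3, 41, 53, 68], .conj 0 [0, 22, 62, 79], .conj 4 [3, 41, 55, 107], .even 1 2, .conj 3 [7, 42, 56, 91], .even 1 2, .conj 4 [14, 40, 60, 107], .conj 4 [5, 36, 49, 73], .even 1 4, .conj 4 [3, 31, 43, 88], .conj 4 [0, 26, 45, 68], .conj 4 [5, 40, 61, 68], .conj 1 [0, 23, 53, 94], .even 1 4, .conj 1 [4, 22, 54, 105], .even 1 4, .even 1 4, .conj 1 [3, 23, 53, 69], .conj 1 [0, 35, 52, 104], .conj 1 [0, 34, 62, 107], .conj 1 [3, 32, 50, 81], .conj 1 [3, 29, 53, 100], .conj 1 [3, 36, 59, 97], .even 1 2, .conj 1 [4, 33, 56, 93], .conj 0 [7, 32, 62, 95], .conj 4 [5, 38, 54, 79], .conj 4 [5, 38, 58, 95]]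

/-- Chunk. -/
def row1Part10 : List V := [.conj 3 [0, 23, 55, 87], .conj 3 [7, 42, 52, 77], .conj 4 [3, 42, 61, 81], .conj 4 [3, 42, 61, 73], .conj 0 [0, 22, 43, 67], .conj 1 [4, 40, 43, 82], .conj 1 [3, 25, 61, 74], .conj 1 [0, 30, 56, 65], .conj 1 [3, 39, 47, 82], .conj 4 [3, 31, 43, 63], .conj 4 [0, 26, 45, 70], .conj 0 [0, 22, 62, 102], .even 1 2, .conj 4 [5, 40, 61, 70], .conj 4 [14, 40, 60, 100], .even 1 2, .conj 3 [7, 42, 56, 75], .even 1 4, .conj 4 [5, 36, 49, 81], .conj 1 [0, 23, 43, 78], .conj 4 [3, 41, 55, 100], .conj 4 [5, 27, 45, 97], .conj 3 [7, 30, 48, 103], .conj 4 [3, 42, 45, 64], .conj 0 [7, 32, 62, 88], .even 1 2, .conj 4 [0, 29, 49, 94], .even 1 4, .conj 4 [0, 26, 45, 109], .even 1 2, .conj 1 [3, 39, 47, 101], .conj 4 [0, 26, 45, 65], .conj 4 [5, 38, 58, 63], .conj 4 [5, 38, 58, 80], .conj 4 [14, 29, 50, 102], .even 1 4, .even 1 4,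 .conj 4 [13, 42, 61, 106], .conj 4 [5, 31, 58, 68], .conj 4 [3, 42, 45, 110], .conj 4 [3, 41, 55, 90], .conj 0 [0, 40, 57, 99], .even 1 4, .conj 1 [4, 30, 48, 97], .conj 1 [0, 42, 54, 73], .even 1 4, .conj 1 [0, 32, 45, 91], .even 1 4, .conj 1 [3, 32, 43, 98], .conj 1 [4, 23, 48, 74], .conj 1 [3, 23, 53, 77], .conj 1 [0, 38, 46, 80], .even 1 4, .conj 1 [4, 22, 54, 92], .conj 1 [3, 26, 52, 81], .even 2 2, .conj 1 [3, 37, 59, 84], .conj 0 [3, 25, 46, 94], .conj 4 [5, 27, 45, 91], .conj 4 [5, 31, 58, 78], .even 2 2, .conj 3 [4, 25, 43, 94], .conj 4 [0, 22, 57, 100], .conj 4 [14, 36, 44, 108], .even 1 4, .even 1 4, .conj 1 [3, 27, 57, 86], .conj 4 [5, 31, 58, 103], .conj 4 [5, 38, 54, 108], .conj 3 [7, 41, 50, 67], .even 1 4, .even 1 2, .even 1 2, .conj 0 [3, 25, 46, 108], .conj 3 [7, 42, 52, 102], .conj 0 [7, 23, 52, 94], .even 1 4, .even 1 4, .conj 3 [7,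 30, 48, 78], .even 1 4, .conj 0 [0, 22, 43, 99], .conj 1 [0, 42, 54, 93], .conj 3 [0, 36, 48, 85], .conj 3 [4, 38, 62, 69], .conj 4 [3, 33, 46, 79], .conj 1 [0, 23, 43, 109], .even 1 4, .conj 4 [0, 23, 53, 89], .conj 1 [6, 31, 45, 93], .conj 0 [0, 34, 57, 84], .conj 0 [0, 40, 57, 67], .conj 4 [3, 37, 62, 67], .conj 4 [0, 25, 54, 65], .conj 1 [3, 37, 59, 97], .conj 1 [3, 34, 60, 83], .conj 3 [7, 30, 48, 92], .conj 3 [7, 22, 58, 93], .conj 1 [3, 35, 57, 106], .conj 3 [7, 22, 58, 109], .conj 3 [7, 41, 50, 71]]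

/-- Chunk. -/
def row1Part11 : List V := [.even 1 4, .even 1 4, .even 1 4, .even 1 4, .even 1 4, .even 1 4, .conj 1 [4, 32, 49, 107], .conj 0 [0, 31, 49, 101], .conj 0 [3, 25, 46, 89], .conj 1 [4, 35, 60, 77], .conj 4 [3, 28, 59, 108], .conj 4 [3, 25, 49, 86], .conj 4 [0, 25, 54, 109], .even 1 4, .conj 1 [3, 36, 59, 110], .conj 4 [14, 40, 60, 66], .conj 1 [3, 35, 57, 108], .conj 4 [3, 35, 50, 110], .conj 4 [6, 23, 59, 91], .conj 0 [7, 32, 62, 63], .conj 0 [0, 31, 49, 106], .conj 0 [3, 37, 49, 74], .conj 1 [3, 33, 50, 82], .conj 4 [3, 28, 59, 89], .conj 4 [3, 31, 43, 95], .even 1 4, .conj 4 [13, 42, 61, 101], .conj 1 [4, 28, 48, 110], .conj 4 [14, 22, 49, 91], .conj 4 [3, 28, 59, 94], .conj 1 [3, 35, 57, 86], .conj 4 [0, 29, 49, 89], .conj 0 [0, 31, 49, 69], .conj 1 [3, 34, 60, 63], .conj 0 [7, 23, 52, 89], .conj 3 [7, 22, 58, 65], .conj 3 [0, 23, 55,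 110], .conj 3 [4, 25, 43, 108], .conj 4 [0, 25, 54, 93], .conj 4 [14, 36, 44, 94], .conj 1 [3, 41, 53, 105], .conj 4 [14, 29, 50, 77], .conj 4 [3, 42, 61, 98], .even 1 2, .conj 4 [3, 42, 61, 92], .conj 4 [5, 27, 45, 74], .conj 1 [3, 32, 44, 66], .even 1 4, .conj 4 [5, 27, 45, 104], .even 1 4, .even 1 4, .conj 4 [0, 22, 51, 85], .conj 1 [4, 22, 43, 103], .conj 1 [3, 32, 50, 92], .conj 4 [14, 29, 50, 86], .conj 4 [0, 22, 51, 88]]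

/-- Row1. -/
def row1 : List V := row1Part0 ++ row1Part1 ++ row1Part2 ++ row1Part3 ++ row1Part4 ++ row1Part5 ++ row1Part6 ++ row1Part7 ++ row1Part8 ++ row1Part9 ++ row1Part10 ++ row1Part11

end CfsgLib.MathieuBlock.D22
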