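import Cfsg.Agent.MathieuBlock.Check
set_option autoImplicit false
set_option maxRecDepth 20000

/-!
Certificate data for the 2-block of M22 (found by a computer search, checked by the kernel).
-/

namespace CfsgLib.MathieuBlock.D22

open CfsgLib.Golay CfsgLib.MathieuTwo

/-- Chunk. -/
def row4Part0 : List V := [.conj 4 [0, 22, 43, 63], .conj 5 [3, 23, 59, 70], .conj 3 [7, 35, 60, 94], .conj 0 [7, 31, 56, 107], .even 1 4, .conj 5 [0, 41, 54, 86], .conj 4 [0, 27, 45, 102], .even 1 4, .even 1 2, .conj 3 [0, 36, 43, 88], .conj 3 [7, 42, 50, 97], .conj 3 [4, 24, 51, 84], .even 1 8, .conj 0 [7, 31, 43, 92], .conj 0 [0, 22, 43, 87], .even 1 8, .conj 5 [3, 37, 53, 66], .conj 3 [4, 25, 53, 75], .conj 4 [3, 28, 57, 67], .even 1 4, .conj 4 [5, 39, 49, 75], .even 1 2, .conj 4 [14, 42, 45, 82], .even 1 8, .conj 4 [14, 26, 59, 73], .conj 0 [3, 26, 61, 70], .even 1 8,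 .conj 0 [0, 33, 61, 108], .even 1 2, .conj 4 [0, 35, 43, 106], .conj 3 [7, 32, 52, 73], .even 1 6, .conj 3 [0, 22, 43, 88], .conj 3 [4, 33, 52, 102], .conj 0 [3, 25, 51, 68], .conj 5 [0, 38, 51, 72], .conj 0 [7, 38, 45, 78], .conj 3 [7, 42, 61, 77], .even 1 2, .conj 0 [3, 33, 45, 106], .conj 0 [7, 33, 55, 83], .conj 0 [3, 35, 47, 101], .conj 4 [14, 41, 57, 103], .conj 3 [4, 32, 44, 63], .conj 5 [3, 29, 53, 78], .conj 0 [7, 33, 52, 64], .even 1 8, .conj 2 [5, 28, 61, 69], .even 1 8, .conj 4 [14, 41, 52, 110], .even 1 4, .conj 4 [0, 28, 54, 95], .conj 1 [3, 37, 44, 82], .conj 4 [0, 28, 53, 84], .conj 5 [0, 24, 44, 88], .conj 0 [0, 35, 57, 88], .even 1 2, .conj 3 [7, 28, 43, 64], .conj 4 [0, 37, 43, 72], .conj 2 [0, 36, 60, 68], .conj 3 [0, 27, 60, 79], .conj 3 [7, 28, 60, 68], .conj 4 [0, 40, 59, 74], .conj 5 [0, 38, 45, 98], .conj 5 [0, 38, 61, 80], .conj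 0 [7, 33, 47, 110], .conj 0 [3, 33, 48, 63], .conj 0 [0, 38, 59, 71], .conj 1 [3, 36, 57, 101], .conj 0 [0, 35, 49, 96], .even 1 4, .conj 4 [14, 35, 60, 101], .conj 4 [14, 39, 52, 81], .conj 3 [0, 32, 51, 89], .conj 5 [3, 39, 62, 82], .conj 0 [7, 23, 57, 72], .conj 5 [3, 39, 47, 63], .conj 3 [4, 30, 43, 101], .conj 3 [0, 27, 56, 79], .even 1 4, .conj 3 [7, 30, 47, 68], .conj 3 [0, 22, 50, 100], .even 1 4, .conj 5 [0, 23, 48, 102], .conj 0 [0, 40, 43, 103], .conj 3 [4, 39, 48, 82], .even 1 8, .conj 4 [5, 27, 50, 103], .conj 5 [3, 31, 44, 76], .conj 5 [0, 22, 56, 91], .conj 0 [3, 23, 46, 93], .conj 4 [0, 30, 46, 79], .even 1 4, .conj 4 [14, 36, 60, 73], .conj 0 [3, 33, 61, 64], .conj 0 [3, 23, 55, 76], .conj 3 [0, 26, 54, 102], .conj 3 [0, 22, 62, 67], .even 1 4, .even 1 8]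

/-- Chunk. -/
def row4Part1 : List V := [.even 1 8, .even 1 6, .conj 2 [0, 41, 58, 89], .conj 4 [5, 39, 43, 103], .conj 3 [0, 22, 59, 89], .conj 4 [3, 42, 62, 105], .conj 0 [7, 29, 61, 90], .even 2 4, .even 1 4, .conj 2 [5, 33, 50, 103], .even 1 4, .conj 0 [0, 22, 56, 75], .conj 2 [0, 22, 44, 108], .conj 4 [14, 28, 50, 109], .even 1 4, .conj 5 [0, 28, 51, 99], .conj 4 [0, 42, 43, 68], .conj 4 [14, 28, 55, 101], .conj 3 [4, 25, 60, 66], .even 2 6, .conj 2 [5, 25, 44, 103], .conj 3 [0, 40, 59, 65], .conj 0 [3, 22, 45, 77], .conj 4 [6, 31, 48, 82], .conj 5 [3, 31, 62, 108], .conj 0 [7, 39, 57, 72], .conj 3 [0, 25, 61, 108], .conj 4 [14, 26, 46, 81], .even 4 6, .conj 4 [0, 22, 54, 104], .conj 4 [0, 30, 48, 97], .conj 4 [3, 36, 52, 105], .even 1 4, .even 1 4, .conj 0 [7, 37, 44, 106], .conj 4 [14, 35, 53, 71], .conj 3 [8, 29, 50, 93], .conj 4 [14, 29, 58,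 88], .even 1 2, .even 1 4, .conj 2 [5, 23, 58, 64], .conj 4 [0, 28, 56, 101], .even 1 4, .even 1 8, .conj 4 [13, 35, 47, 102], .even 4 6, .conj 4 [0, 22, 43, 72], .conj 4 [0, 34, 53, 91], .conj 3 [0, 39, 49, 93], .conj 4 [5, 24, 58, 70], .even 1 8, .conj 2 [0, 34, 43, 64], .conj 5 [0, 22, 59, 104], .conj 4 [0, 22, 45, 92], .conj 3 [4, 34, 61, 82], .conj 4 [5, 38, 44, 107], .even 1 2, .conj 1 [21, 37, 56, 95], .conj 0 [7, 39, 51, 101], .even 1 4, .conj 0 [0, 33, 58, 78], .conj 1 [0, 22, 58, 91], .conj 2 [0, 29, 56, 95], .conj 4 [5, 27, 55, 95], .conj 0 [7, 41, 59, 78], .conj 5 [3, 31, 47, 72], .conj 4 [5, 32, 49, 78], .conj 3 [0, 36, 45, 63], .even 1 4, .conj 4 [14, 31, 44, 67], .even 1 8, .conj 4 [14, 38, 51, 80], .conj 3 [4, 24, 43, 107], .conj 4 [3, 37, 52, 85], .conj 2 [5, 28, 60, 68], .conj 3 [4, 24, 59, 95], .conj 0 [7, 29, 58, 101], .conj 0 [0, 25,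 61, 96], .even 1 4, .conj 2 [5, 27, 52, 87], .even 1 4, .conj 0 [3, 40, 50, 107], .even 1 8, .conj 3 [0, 23, 54, 90], .conj 5 [3, 22, 53, 84], .conj 3 [0, 28, 56, 63], .conj 2 [5, 27, 57, 65], .conj 4 [0, 22, 53, 90], .conj 0 [0, 23, 47, 93], .conj 2 [0, 39, 53, 66], .conj 3 [7, 30, 47, 78], .conj 1 [3, 42, 55, 64], .conj 0 [20, 23, 58, 71], .conj 4 [5, 24, 54, 79], .conj 0 [3, 23, 55, 95], .conj 3 [4, 24, 59, 88], .conj 3 [4, 24, 44, 106], .conj 4 [3, 42, 55, 87], .even 1 8, .conj 0 [0, 41, 46, 82]]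

/-- Chunk. -/
def row4Part2 : List V := [.conj 2 [0, 23, 46, 99], .conj 4 [14, 36, 44, 82], .even 1 6, .conj 5 [3, 31, 59, 89], .even 1 8, .conj 0 [0, 22, 43, 104], .conj 2 [0, 30, 58, 71], .even 1 6, .even 1 6, .conj 4 [5, 27, 60, 110], .even 1 4, .conj 5 [0, 23, 49, 91], .even 1 2, .conj 4 [14, 27, 58, 89], .even 2 6, .conj 3 [7, 29, 43, 98], .even 1 2, .even 1 4, .conj 4 [0, 22, 43, 87], .even 1 8, .conj 4 [0, 36, 52, 68], .even 1 2, .conj 0 [7, 33, 48, 96], .conj 1 [7, 31, 58, 67], .conj 5 [0, 22, 49, 89], .conj 4 [14, 24, 49, 88], .conj 0 [3, 26, 59, 98], .conj 4 [14, 35, 53, 83], .conj 4 [5, 35, 49, 87], .conj 2 [5, 33, 48, 104], .conj 2 [0, 27, 43, 100], .conj 4 [5, 29, 60, 91], .conj 4 [14, 29, 59, 69], .even 1 2, .conj 4 [3, 39, 53, 71], .conj 3 [7, 40, 59, 88], .conj 4 [14, 22, 49, 110], .even 1 6, .even 1 8, .conj 3 [4, 22, 47, 86], .even 1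 6, .conj 4 [5, 24, 51, 70], .even 1 8, .conj 4 [5, 27, 57, 93], .even 1 6, .even 1 4, .even 1 6, .conj 3 [7, 42, 45, 95], .even 1 8, .conj 4 [0, 23, 58, 92], .conj 4 [3, 26, 53, 88], .even 1 8, .conj 4 [3, 42, 44, 103], .conj 4 [3, 32, 62, 107], .even 1 4, .conj 0 [7, 37, 50, 98], .conj 3 [7, 41, 60, 88], .conj 4 [14, 31, 45, 78], .conj 1 [21, 37, 56, 104], .conj 4 [14, 38, 45, 86], .conj 4 [14, 29, 61, 70], .conj 4 [0, 22, 43, 81], .conj 4 [5, 27, 46, 79], .conj 2 [5, 29, 46, 67], .conj 0 [0, 28, 48, 94], .even 1 8, .even 1 2, .even 1 2, .even 4 6, .even 1 8, .conj 5 [3, 42, 46, 89], .conj 2 [5, 33, 62, 92], .conj 3 [4, 28, 52, 93], .conj 5 [3, 35, 47, 68], .conj 4 [14, 35, 53, 98], .conj 4 [3, 36, 52, 68], .conj 0 [0, 33, 58, 92], .even 1 4, .conj 4 [0, 34, 53, 75], .even 1 6, .even 1 8, .conj 2 [5, 33, 53, 96], .even 2 2, .conj 3 [4, 35, 44, 102], .even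 1 2, .conj 5 [3, 31, 57, 101], .even 1 8, .conj 4 [0, 23, 48, 75], .conj 5 [0, 42, 52, 81], .even 1 4, .conj 0 [0, 29, 60, 82], .even 1 8, .conj 4 [0, 22, 43, 69], .conj 0 [7, 26, 59, 101], .conj 4 [14, 29, 59, 105], .conj 4 [14, 37, 62, 74], .conj 4 [0, 40, 55, 99], .conj 1 [3, 24, 54, 104], .even 1 2, .conj 5 [3, 38, 50, 102]]

/-- Chunk. -/
def row4Part3 : List V := [.conj 0 [0, 28, 52, 107], .conj 3 [7, 42, 54, 103], .conj 3 [7, 26, 54, 100], .conj 3 [7, 42, 56, 71], .conj 3 [7, 32, 47, 84], .conj 3 [4, 33, 52, 106], .conj 1 [3, 31, 58, 74], .conj 0 [3, 26, 45, 94], .even 4 6, .conj 3 [7, 42, 51, 89], .even 1 4, .even 1 4, .conj 3 [0, 33, 51, 71], .even 1 6, .conj 4 [5, 37, 54, 92], .conj 4 [14, 35, 62, 90], .conj 3 [4, 31, 45, 71], .conj 0 [0, 26, 57, 95], .conj 5 [0, 27, 54, 100], .conj 4 [13, 35, 46, 110], .conj 5 [0, 26, 55, 82], .conj 3 [7, 42,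 60, 71], .conj 2 [0, 24, 61, 66], .even 1 2, .conj 4 [14, 35, 62, 102], .conj 0 [3, 42, 53, 67], .conj 2 [0, 23, 56, 83], .even 1 4, .conj 4 [3, 42, 58, 66], .even 1 6, .even 1 6, .conj 3 [4, 25, 54, 76], .conj 2 [0, 27, 53, 85], .even 1 4, .conj 1 [3, 38, 48, 74], .conj 5 [3, 31, 60, 96], .even 1 4, .conj 3 [4, 26, 50, 65], .conj 4 [3, 42, 48, 83], .conj 5 [0, 23, 47, 93], .even 1 4, .conj 0 [0, 35, 53, 84], .conj 5 [0, 36, 50, 106], .even 1 2, .conj 0 [7, 38, 54, 75], .conj 4 [5, 27, 53, 106], .conj 4 [0, 22, 43, 108], .conj 4 [3, 42, 45, 74], .conj 3 [4, 27, 61, 68], .conj 4 [14, 39, 59, 80], .conj 0 [0, 22, 52, 106], .conj 0 [0, 22, 44, 100], .conj 0 [7, 41, 59, 70], .even 1 2, .conj 4 [14, 29, 61, 100], .conj 4 [6, 23, 61, 79], .conj 4 [3, 33, 47, 101], .conj 4 [3, 38, 44, 90], .conj 5 [0, 35, 54, 84], .conj 0 [7, 30, 46, 77], .conj 0 [3, 31, 56,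 99], .even 1 4, .conj 3 [7, 33, 49, 101], .conj 0 [7, 29, 46, 76], .conj 4 [0, 22, 43, 80], .conj 5 [0, 22, 50, 97], .conj 2 [0, 41, 54, 84], .even 1 8, .conj 3 [7, 36, 57, 103], .conj 4 [14, 40, 50, 92], .conj 0 [0, 22, 59, 67], .conj 4 [0, 22, 43, 96], .conj 4 [5, 39, 47, 81], .conj 3 [7, 41, 43, 77], .conj 0 [0, 41, 46, 102], .conj 4 [0, 22, 43, 88], .conj 3 [4, 37, 48, 72], .conj 1 [3, 31, 58, 91], .conj 4 [3, 25, 51, 86], .conj 3 [0, 26, 56, 107], .conj 4 [14, 29, 56, 70], .conj 0 [0, 22, 47, 109], .conj 4 [0, 23, 58, 110], .conj 5 [0, 29, 54, 92], .even 1 4, .even 1 4, .conj 3 [4, 29, 56, 76], .conj 1 [0, 35, 60, 85], .conj 4 [0, 34, 53, 99], .conj 0 [7, 35, 56, 108], .even 2 2, .conj 4 [0, 31, 49, 107], .even 4 6, .conj 3 [7, 42, 58, 70], .conj 3 [0, 36, 58, 105], .conj 2 [0, 22, 60, 68], .even 1 4, .even 1 6, .conj 3 [4, 25, 54, 66], .even 4 6]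

/-- Chunk. -/
def row4Part4 : List V := [.even 1 4, .conj 3 [7, 35, 45, 109], .even 1 4, .conj 3 [4, 35, 62, 97], .even 1 2, .conj 0 [0, 33, 51, 102], .conj 4 [0, 42, 55, 100], .conj 0 [7, 28, 57, 77], .even 1 4, .conj 4 [0, 41, 48, 71], .conj 4 [13, 35, 46, 83], .conj 4 [0, 34, 53, 69], .conj 0 [0, 24, 56, 91], .even 4 6, .conj 2 [5, 30, 56, 107], .conj 4 [3, 26, 51, 85], .conj 0 [3, 26, 49, 71], .conj 0 [7, 37, 58, 66], .conj 2 [5, 33, 46, 109], .conj 5 [0, 22, 53, 88], .conj 0 [3, 34, 53, 85], .even 4 2, .even 1 4, .even 1 8, .conj 0 [0, 39, 59, 73], .conj 1 [3, 32, 46, 74], .even 1 2, .conj 4 [0, 22, 43, 93], .conj 4 [14, 29, 47, 98], .conj 1 [3, 37, 51, 68], .conj 3 [7, 28, 43, 75], .conj 3 [0, 32, 54, 97], .conj 3 [4, 32, 51, 99], .even 1 8, .even 1 6, .conj 0 [7, 37, 46, 74], .conj 4 [3, 42, 50, 76], .conj 4 [0, 23, 48, 102], .conj 0 [7, 32, 57,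 71], .conj 4 [0, 23, 58, 104], .conj 5 [3, 27, 55, 67], .even 1 2, .conj 2 [0, 23, 61, 71], .conj 3 [7, 42, 56, 84], .conj 3 [7, 23, 55, 84], .conj 5 [3, 36, 55, 81], .conj 3 [4, 30, 56, 94], .conj 3 [4, 41, 51, 109], .conj 0 [7, 35, 54, 71], .conj 0 [7, 37, 60, 98], .conj 4 [5, 27, 51, 70], .conj 3 [7, 41, 50, 75], .conj 0 [0, 22, 49, 73], .conj 1 [21, 37, 44, 65], .conj 5 [0, 22, 48, 96], .even 1 2, .conj 4 [14, 32, 46, 84], .conj 4 [0, 23, 56, 66], .conj 4 [0, 23, 54, 100], .conj 4 [14, 37, 46, 86], .conj 4 [14, 30, 45, 85], .even 1 4, .conj 4 [0, 22, 43, 84], .even 1 2, .conj 4 [14, 29, 61, 64], .conj 3 [7, 28, 53, 105], .even 1 4, .even 1 4, .conj 3 [0, 41, 48, 63], .even 1 6, .conj 4 [0, 42, 59, 67], .conj 4 [14, 40, 49, 75], .conj 2 [0, 35, 46, 85], .conj 0 [3, 36, 55, 81], .conj 2 [5, 33, 46, 93], .even 1 2, .conj 3 [0, 23, 55, 71], .even 1 4,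 .conj 5 [3, 33, 46, 66], .conj 2 [0, 28, 60, 104], .conj 4 [14, 31, 57, 76], .conj 4 [5, 38, 62, 75], .conj 3 [4, 33, 55, 79], .conj 5 [0, 22, 61, 91], .conj 0 [7, 23, 55, 89], .conj 5 [0, 22, 43, 95], .conj 4 [0, 22, 43, 78], .conj 2 [5, 38, 46, 107], .conj 0 [20, 23, 52, 78], .conj 4 [0, 22, 45, 89], .conj 3 [0, 34, 57, 70], .conj 0 [3, 35, 47, 79], .conj 4 [14, 40, 50, 74], .conj 3 [4, 34, 55, 78], .conj 4 [14, 29, 43, 95], .conj 4 [3, 42, 52, 73], .conj 2 [5, 34, 62, 90], .conj 4 [6, 23, 61, 91], .even 2 2, .even 1 8]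

/-- Chunk. -/
def row4Part5 : List V := [.even 1 6, .conj 5 [0, 35, 49, 108], .conj 0 [3, 28, 52, 89], .even 1 4, .even 1 4, .conj 3 [0, 34, 48, 89], .conj 0 [7, 34, 43, 82], .even 4 6, .conj 4 [0, 24, 44, 108], .even 1 8, .conj 4 [5, 42, 54, 104], .even 2 4, .even 1 4, .conj 4 [0, 22, 54, 98], .conj 2 [0, 22, 46, 92], .conj 1 [3, 22, 52, 73], .conj 0 [3, 26, 45, 108], .conj 4 [5, 36, 46, 69], .conj 3 [0, 40, 46, 72], .conj 5 [0, 26, 55, 72], .conj 3 [0, 25, 56, 83], .conj 0 [7, 41, 43, 90], .conj 4 [5, 42, 43, 72], .conj 0 [7, 25, 48, 89], .conj 5 [0, 40, 61, 73], .conj 2 [5, 38, 51, 85], .conj 0 [3, 25, 59, 80], .conj 3 [7, 24, 57, 84], .conj 0 [3, 29, 46, 96], .conj 5 [3, 27, 58, 85], .even 1 4, .conj 5 [3, 36, 53, 72], .conj 5 [0, 38, 59, 74], .conj 3 [7, 27, 52, 93], .conj 3 [0, 22, 43, 95], .conj 3 [4, 24, 45, 99], .conj 4 [0, 22, 50, 73], .conj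 4 [0, 22, 52, 73], .conj 3 [4, 30, 47, 101], .conj 4 [5, 37, 48, 89], .even 1 6, .conj 4 [14, 33, 46, 67], .conj 0 [3, 32, 58, 76], .conj 0 [3, 27, 60, 91], .conj 4 [6, 31, 58, 68], .conj 3 [0, 22, 56, 76], .even 1 6, .conj 4 [3, 42, 45, 91], .even 1 8, .conj 2 [5, 35, 44, 99], .conj 0 [0, 38, 43, 77], .conj 3 [7, 30, 49, 97], .conj 2 [5, 35, 55, 94], .conj 2 [0, 22, 43, 83], .conj 4 [3, 42, 46, 96], .conj 5 [3, 31, 58, 88], .conj 3 [7, 42, 48, 89], .conj 2 [0, 35, 45, 96], .conj 4 [5, 34, 45, 75], .conj 4 [0, 30, 48, 87], .conj 0 [3, 25, 58, 106], .conj 2 [0, 27, 60, 86], .conj 4 [0, 26, 44, 84], .even 1 4, .even 1 6, .even 1 4, .even 1 8, .even 1 6, .conj 2 [0, 27, 53, 96], .conj 4 [5, 41, 55, 103], .conj 4 [5, 27, 52, 69], .conj 4 [5, 39, 48, 95], .even 2 2, .conj 0 [0, 22, 60, 67], .conj 1 [3, 31, 58, 88], .even 1 8, .conj 4 [14, 29, 59, 63], .conj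 4 [14, 35, 51, 88], .conj 4 [0, 22, 43, 105], .even 1 2, .conj 4 [14, 30, 45, 109], .even 1 4, .even 1 4, .even 1 8, .conj 4 [0, 36, 48, 76], .even 1 2, .even 1 2, .conj 3 [0, 22, 60, 77], .conj 5 [3, 28, 55, 65], .conj 5 [3, 31, 60, 83], .even 1 2, .conj 3 [7, 27, 47, 74], .conj 4 [14, 40, 50, 65], .even 2 6, .even 1 4, .conj 0 [7, 32, 51, 90], .even 1 2, .conj 4 [5, 25, 56, 92], .even 1 6, .conj 4 [14, 34, 52, 92]]

/-- Chunk. -/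
def row4Part6 : List V := [.even 1 8, .conj 1 [3, 27, 54, 65], .conj 1 [4, 31, 43, 95], .conj 1 [3, 32, 55, 90], .conj 4 [5, 41, 57, 76], .conj 1 [4, 31, 47, 100], .even 1 2, .conj 3 [0, 27, 55, 82], .conj 1 [21, 35, 55, 71], .conj 4 [0, 22, 45, 107], .conj 4 [0, 22, 43, 99], .conj 4 [3, 42, 53, 101], .conj 3 [0, 30, 59, 109], .conj 0 [3, 26, 53, 96], .even 1 4, .conj 4 [14, 40, 49, 96], .conj 4 [0, 23, 48, 81], .even 1 4, .conj 0 [3, 39, 49, 110], .conj 1 [3, 23, 52, 103], .conj 4 [5, 34, 62, 77], .conj 4 [14, 29, 49, 94], .conj 4 [0, 29, 55, 104], .even 1 4, .conj 1 [19, 24, 58, 74], .even 1 4, .conj 4 [5, 42, 48, 66], .conj 4 [0, 22, 54, 95], .conj 4 [13, 35, 46, 86], .conj 4 [5, 31, 61, 100], .conj 0 [7, 32, 53, 105], .conj 3 [0, 22, 58, 70], .conj 4 [5, 29, 46, 77], .even 1 4, .conj 4 [3, 37, 44, 88], .conj 1 [0, 22, 57, 63], .conj 4 [5, 27, 46, 102],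 .even 1 2, .conj 4 [13, 42, 47, 108], .conj 1 [4, 37, 48, 72], .conj 4 [14, 41, 43, 110], .conj 3 [4, 24, 49, 110], .conj 4 [0, 39, 56, 76], .conj 4 [0, 22, 61, 69], .even 1 4, .even 1 2, .even 1 4, .even 3 6, .conj 0 [7, 37, 62, 99], .conj 0 [0, 23, 58, 71], .conj 3 [0, 24, 51, 105], .even 1 8, .conj 4 [3, 23, 50, 109], .conj 2 [0, 22, 43, 96], .conj 4 [3, 36, 50, 95], .conj 2 [0, 22, 51, 96], .conj 0 [7, 26, 55, 91], .conj 3 [4, 35, 52, 88], .conj 0 [3, 24, 43, 75], .conj 4 [14, 39, 49, 98], .conj 0 [0, 25, 44, 68], .conj 2 [5, 35, 47, 78], .conj 3 [7, 42, 56, 64], .conj 2 [0, 22, 52, 80], .conj 0 [0, 33, 47, 95], .conj 0 [0, 26, 49, 85], .conj 0 [7, 37, 52, 76], .even 1 4, .conj 4 [14, 39, 48, 97], .conj 0 [3, 22, 49, 74], .even 1 4, .conj 3 [0, 31, 46, 78], .conj 3 [7, 35, 57, 81], .even 1 8, .even 1 4, .even 1 8, .even 1 4, .conj 3 [4, 33, 50, 87],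 .conj 3 [4, 41, 55, 88], .even 1 8, .conj 3 [8, 29, 55, 94], .even 1 6, .conj 3 [0, 28, 45, 63], .conj 0 [3, 33, 51, 90], .even 4 6, .conj 0 [3, 38, 47, 72], .conj 3 [4, 24, 50, 93], .conj 2 [0, 30, 52, 63], .conj 3 [4, 29, 58, 70], .conj 4 [14, 40, 49, 66], .even 3 6, .conj 0 [3, 24, 43, 67], .conj 4 [0, 22, 43, 85], .conj 4 [0, 27, 45, 106], .even 1 4, .conj 4 [0, 22, 43, 90], .conj 2 [0, 41, 54, 64], .conj 4 [14, 22, 49, 89], .conj 5 [3, 31, 51, 94], .even 1 4]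

/-- Chunk. -/
def row4Part7 : List V := [.conj 1 [3, 32, 51, 105], .conj 4 [5, 23, 50, 79], .conj 4 [14, 34, 46, 100], .conj 3 [7, 40, 61, 108], .even 1 2, .conj 2 [0, 33, 44, 90], .even 1 8, .conj 0 [0, 23, 47, 73], .even 1 8, .even 1 4, .conj 0 [7, 41, 54, 110], .conj 0 [0, 37, 44, 81], .conj 0 [0, 22, 53, 78], .even 1 2, .conj 1 [21, 37, 44, 68], .conj 0 [7, 37, 57, 73], .conj 4 [0, 22, 43, 95], .conj 3 [7, 24, 57, 64], .conj 0 [3, 22, 43, 87], .conj 2 [5, 41, 59, 88], .conj 2 [0, 39, 59, 78], .conj 4 [3, 35, 50, 87], .conj 4 [3, 38, 48, 110], .even 1 4, .conj 4 [0, 34, 53, 82], .conj 4 [0, 22, 43, 66], .conj 1 [4, 25, 54, 73], .conj 4 [13, 35, 47, 72], .conj 3 [4, 32, 44, 107], .conj 4 [3, 24, 58, 79], .conj 4 [3, 33, 46, 77], .even 1 4, .conj 4 [0, 24, 58, 104], .even 1 4, .conj 4 [0, 22, 43, 107], .conj 1 [0, 22, 43, 63], .even 1 2, .conj 1 [3,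 27, 44, 76], .conj 1 [4, 22, 52, 89], .conj 4 [5, 27, 62, 110], .conj 1 [0, 42, 54, 73], .conj 4 [5, 27, 58, 67], .conj 0 [3, 26, 50, 103], .conj 3 [0, 22, 61, 100], .conj 4 [0, 31, 47, 91], .conj 1 [3, 39, 47, 82], .conj 4 [5, 22, 49, 97], .conj 4 [14, 35, 62, 72], .conj 3 [7, 39, 44, 91], .even 1 4, .even 1 4, .conj 4 [0, 22, 43, 100], .conj 4 [5, 27, 54, 68], .conj 0 [0, 36, 47, 64], .conj 0 [0, 34, 57, 97], .conj 1 [3, 38, 48, 83], .conj 1 [3, 36, 57, 102], .conj 1 [3, 34, 60, 95], .even 1 4, .conj 4 [5, 23, 58, 63], .conj 4 [0, 30, 46, 89], .conj 4 [5, 31, 52, 76], .conj 4 [14, 33, 44, 104], .even 1 4, .conj 3 [7, 40, 62, 83], .conj 4 [14, 36, 53, 86], .even 1 8, .even 1 4, .even 1 8, .conj 4 [6, 23, 61, 70], .conj 5 [3, 32, 51, 76], .even 1 2, .conj 4 [14, 22, 49, 71], .even 1 6, .conj 4 [14, 29, 47, 74], .conj 4 [0, 22, 43, 75], .even 1 2, .conj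 1 [3, 32, 61, 73], .even 1 4, .even 1 2, .conj 3 [4, 24, 58, 74], .conj 4 [3, 42, 45, 99], .conj 2 [5, 33, 45, 104], .even 1 8, .even 1 6, .conj 2 [0, 38, 61, 70], .conj 4 [14, 42, 51, 63], .even 1 4, .even 1 6, .conj 0 [3, 26, 51, 92], .conj 0 [3, 23, 59, 97], .conj 5 [0, 22, 43, 88], .even 1 8, .even 1 4, .even 1 4, .conj 4 [5, 32, 56, 100], .even 1 4, .conj 4 [3, 37, 62, 87], .even 1 4, .conj 4 [3, 42, 49, 95]]

/-- Chunk. -/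
def row4Part8 : List V := [.even 1 6, .even 1 2, .conj 4 [14, 35, 55, 65], .conj 3 [4, 30, 57, 79], .conj 4 [0, 42, 55, 107], .even 1 2, .conj 3 [4, 35, 62, 74], .even 1 2, .conj 0 [7, 27, 46, 68], .conj 0 [0, 32, 56, 73], .even 1 8, .conj 2 [5, 40, 48, 84], .conj 4 [0, 33, 49, 108], .conj 2 [5, 26, 47, 96], .conj 4 [0, 22, 43, 102], .conj 4 [14, 29, 47, 77], .conj 1 [3, 32, 59, 73], .even 1 2, .conj 4 [0, 34, 53, 106], .even 2 6, .conj 0 [0, 22, 43, 97], .conj 5 [3, 31, 43, 70], .conj 2 [0, 22, 62, 100], .conj 4 [3, 42, 47, 64], .conj 4 [13, 35, 47, 66], .conj 3 [4, 42, 47, 96], .conj 3 [4, 36, 54, 77], .conj 5 [3, 27, 47, 79], .even 1 4, .even 1 8, .conj 3 [4, 25, 59, 107], .even 4 6, .conj 0 [3, 26, 62, 107], .conj 0 [0, 29, 55, 76], .conj 0 [7, 37, 46, 84], .conj 4 [0, 31, 49, 96], .conj 2 [5, 33, 43, 75], .conj 4 [0, 35, 54, 105], .conj 5 [0, 22,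 51, 90], .conj 3 [7, 29, 54, 110], .conj 4 [14, 30, 45, 79], .conj 3 [7, 42, 46, 77], .even 1 8, .conj 3 [0, 31, 47, 79], .even 1 4, .conj 0 [3, 37, 49, 87], .conj 2 [5, 33, 46, 98], .conj 4 [14, 29, 55, 63], .even 1 8, .even 1 4, .conj 2 [0, 32, 44, 108], .conj 0 [3, 35, 58, 104], .conj 4 [3, 25, 55, 73], .conj 4 [5, 37, 43, 81], .conj 4 [14, 32, 47, 88], .conj 0 [3, 30, 61, 104], .conj 3 [7, 34, 58, 65], .conj 4 [3, 32, 61, 82], .conj 5 [3, 42, 53, 96], .conj 3 [7, 41, 43, 79], .conj 4 [5, 24, 43, 73], .even 1 8, .conj 4 [3, 41, 57, 103], .even 1 8, .conj 4 [5, 40, 47, 72], .conj 4 [0, 23, 45, 89], .conj 0 [0, 37, 55, 80], .conj 0 [0, 32, 55, 73], .even 1 4, .conj 2 [0, 36, 53, 96], .conj 4 [14, 29, 57, 93], .conj 4 [5, 39, 47, 98], .conj 2 [0, 22, 58, 102], .even 1 8, .conj 2 [5, 38, 59, 108], .even 1 6, .conj 4 [0, 28, 59, 103], .conj 0 [7, 37, 45,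 74], .conj 0 [0, 34, 52, 92], .conj 4 [5, 38, 44, 88], .conj 1 [3, 22, 52, 86], .conj 3 [7, 32, 47, 71], .conj 2 [0, 22, 55, 71], .conj 4 [5, 24, 51, 92], .conj 4 [0, 22, 43, 76], .conj 3 [0, 42, 50, 79], .conj 2 [0, 30, 53, 84], .conj 5 [3, 37, 48, 109], .conj 4 [5, 22, 49, 110], .conj 3 [7, 28, 59, 99], .even 1 6, .conj 2 [5, 32, 56, 89], .even 3 2, .conj 1 [3, 25, 51, 102], .even 1 8, .conj 0 [3, 30, 47, 101], .conj 4 [3, 26, 53, 83], .conj 4 [3, 35, 50, 71], .even 1 2, .conj 0 [20, 23, 48, 85]]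

/-- Chunk. -/
def row4Part9 : List V := [.conj 4 [5, 23, 58, 76], .conj 0 [3, 37, 44, 75], .conj 1 [3, 38, 48, 91], .conj 4 [0, 30, 59, 108], .conj 2 [0, 22, 43, 100], .even 1 4, .even 1 2, .conj 4 [0, 22, 54, 101], .conj 4 [0, 22, 55, 110], .even 1 6, .conj 5 [3, 23, 59, 93], .even 1 4, .conj 4 [13, 42, 46, 101], .conj 5 [0, 35, 60, 72], .conj 4 [3, 28, 45, 95], .conj 0 [7, 34, 61, 70], .conj 5 [3, 31, 60, 100], .even 1 2, .even 4 2, .even 4 6, .even 1 4, .conj 3 [8, 29, 60, 100], .even 1 8, .conj 2 [0, 37, 47, 101], .conj 3 [0, 34, 43, 101], .conj 3 [4, 34, 59, 80], .even 1 8, .conj 0 [0, 41, 46, 77], .even 4 2, .even 2 2, .even 1 4, .conj 1 [0, 25, 54, 71], .conj 0 [3, 26, 55, 75], .conj 4 [3, 34, 61, 73], .even 1 8, .conj 2 [0, 24, 62, 100], .conj 4 [3, 34, 60, 66], .conj 4 [14, 41, 62, 107], .conj 4 [3, 38, 48, 91], .even 3 6, .conj 4 [5, 27, 44,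 108], .conj 0 [7, 31, 56, 85], .conj 4 [0, 22, 43, 83], .conj 4 [0, 33, 53, 94], .conj 2 [5, 25, 43, 109], .conj 1 [7, 31, 48, 74], .even 1 2, .conj 3 [7, 24, 57, 110], .conj 4 [0, 29, 49, 69], .even 1 6, .conj 0 [3, 26, 48, 109], .conj 4 [0, 38, 55, 100], .conj 4 [13, 35, 46, 65], .conj 4 [14, 35, 62, 96], .conj 4 [5, 22, 55, 72], .conj 5 [3, 27, 58, 80], .even 1 4, .even 1 6, .even 1 8, .conj 5 [0, 24, 49, 85], .conj 4 [5, 41, 43, 107], .even 1 4, .conj 4 [3, 39, 62, 63], .conj 1 [3, 37, 55, 109], .conj 4 [3, 39, 55, 109], .conj 4 [0, 22, 56, 68], .conj 4 [0, 22, 58, 87], .conj 0 [7, 37, 49, 79], .conj 0 [3, 26, 45, 86], .even 1 4, .conj 4 [3, 33, 57, 64], .even 1 4, .conj 4 [5, 38, 49, 90], .conj 5 [3, 31, 54, 91], .conj 0 [0, 30, 51, 74], .even 1 2, .even 1 8, .even 1 2, .conj 4 [14, 40, 50, 71], .even 1 4, .conj 3 [0, 37, 59, 66], .even 1 8, .even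 1 8, .even 1 8, .conj 4 [0, 37, 46, 72], .conj 0 [7, 37, 46, 67], .conj 4 [14, 29, 59, 87], .even 1 2, .conj 0 [3, 27, 51, 67], .even 1 4, .conj 3 [7, 33, 48, 90], .even 1 2, .conj 1 [3, 32, 45, 77], .conj 4 [3, 22, 58, 92], .conj 3 [0, 27, 54, 103], .conj 4 [14, 22, 49, 101], .conj 4 [0, 33, 44, 102], .conj 0 [7, 23, 49, 102], .even 1 4, .conj 0 [3, 35, 54, 64]]

/-- Chunk. -/
def row4Part10 : List V := [.conj 0 [0, 35, 49, 80], .conj 3 [0, 22, 53, 83], .conj 3 [4, 24, 53, 68], .conj 2 [5, 33, 60, 68], .conj 5 [0, 22, 43, 66], .even 1 8, .conj 4 [5, 40, 51, 107], .even 1 8, .conj 4 [3, 41, 55, 88], .conj 5 [3, 34, 52, 107], .conj 3 [4, 37, 53, 74], .conj 2 [5, 33, 54, 77], .even 1 2, .conj 5 [3, 33, 44, 94], .conj 4 [14, 40, 49, 87], .conj 4 [3, 27, 44, 93], .even 1 8, .conj 3 [7, 31, 58, 105], .even 1 6, .even 3 6, .conj 5 [0, 34, 59, 76], .conj 2 [0,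 22, 61, 98], .conj 3 [4, 32, 57, 94], .conj 3 [0, 22, 43, 66], .even 1 4, .conj 4 [0, 34, 53, 102], .conj 4 [5, 42, 43, 89], .even 1 4, .conj 4 [3, 24, 49, 110], .conj 4 [14, 35, 53, 101], .conj 0 [0, 32, 55, 78], .even 1 6, .conj 4 [3, 33, 56, 84], .conj 0 [3, 37, 57, 73], .conj 4 [14, 29, 53, 73], .even 1 6, .conj 3 [4, 24, 57, 73], .even 2 4, .conj 4 [5, 29, 47, 99], .conj 4 [5, 27, 46, 101], .conj 4 [3, 34, 60, 85], .conj 3 [4, 26, 49, 69], .conj 5 [3, 41, 43, 87], .conj 5 [3, 33, 53, 66], .conj 4 [3, 35, 50, 91], .even 1 8, .conj 2 [5, 41, 45, 67], .conj 5 [0, 28, 53, 81], .even 1 4, .even 1 2, .even 1 4, .conj 1 [3, 39, 56, 82], .conj 0 [0, 34, 51, 107], .conj 4 [14, 29, 61, 94], .conj 2 [5, 41, 59, 95], .conj 4 [6, 23, 61, 100], .conj 4 [3, 39, 61, 104], .conj 3 [7, 40, 53, 72], .even 1 8, .conj 2 [5, 32, 44, 74], .conj 1 [7, 31, 58, 94], .conj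 3 [7, 28, 57, 80], .conj 4 [0, 22, 45, 74], .conj 3 [0, 28, 44, 73], .conj 0 [0, 27, 49, 109], .conj 0 [0, 22, 48, 71], .even 1 4, .even 1 8, .conj 4 [3, 33, 51, 102], .conj 3 [0, 28, 44, 93], .conj 2 [5, 33, 52, 100], .conj 4 [0, 23, 48, 96], .even 1 4, .conj 0 [7, 31, 44, 89], .conj 5 [0, 22, 55, 84], .conj 2 [0, 23, 51, 93], .conj 4 [0, 23, 58, 65], .conj 3 [0, 22, 51, 88], .conj 3 [0, 23, 58, 107], .even 1 4, .conj 3 [4, 24, 59, 66], .even 1 4, .even 1 2, .conj 3 [4, 38, 56, 91], .conj 0 [3, 33, 51, 76], .conj 4 [0, 37, 44, 72], .conj 5 [0, 27, 48, 109], .even 1 4, .conj 4 [6, 31, 52, 75], .conj 3 [0, 28, 45, 88], .conj 2 [0, 42, 44, 75], .conj 0 [3, 25, 59, 88], .even 1 4, .conj 0 [3, 33, 56, 76], .conj 3 [4, 39, 58, 80], .conj 5 [3, 39, 55, 82], .even 1 4, .conj 3 [7, 23, 54, 85], .conj 5 [3, 30, 46, 108], .conj 2 [5, 25, 44, 65]]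

/-- Chunk. -/
def row4Part11 : List V := [.conj 4 [0, 24, 52, 90], .even 1 8, .even 1 2, .conj 3 [7, 34, 58, 103], .even 1 8, .even 1 4, .conj 4 [3, 22, 46, 96], .conj 5 [0, 39, 49, 68], .conj 5 [3, 36, 49, 98], .even 1 4, .conj 4 [0, 29, 57, 79], .conj 0 [0, 25, 59, 88], .conj 4 [14, 30, 45, 67], .even 1 8, .conj 0 [3, 37, 47, 110], .even 4 2, .conj 0 [0, 30, 51, 99], .conj 4 [0, 27, 45, 101], .conj 4 [13, 35, 47, 63], .conj 2 [5, 27, 46, 105], .even 2 6, .conj 5 [0, 24, 44, 80], .conj 4 [14, 26, 59, 92], .conj 5 [3, 23, 48, 78], .conj 2 [5, 22, 50, 96], .conj 3 [7, 37, 56, 109], .conj 4 [13, 42, 59, 99], .even 1 4, .conj 4 [0, 34, 53, 64], .conj 4 [14, 26, 49, 101], .conj 1 [0, 33, 44, 102], .conj 4 [3, 25, 55, 65], .even 1 4, .conj 3 [4, 29, 56, 90], .conj 5 [3, 22, 48, 108], .even 2 6, .even 2 6, .conj 0 [3, 37, 55, 89], .even 1 2, .even 1 6, .conj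 4 [14, 41, 49, 89], .conj 4 [14, 29, 51, 88], .conj 0 [7, 37, 53, 65], .even 1 2, .conj 3 [0, 22, 55, 104], .conj 3 [7, 42, 57, 100], .even 1 4, .conj 3 [4, 24, 60, 99], .conj 0 [0, 22, 46, 108], .conj 0 [3, 26, 47, 105], .conj 1 [3, 32, 46, 80], .conj 4 [0, 22, 59, 93], .conj 4 [14, 29, 47, 80], .even 1 4, .conj 4 [14, 29, 52, 105], .conj 4 [0, 22, 46, 76]]

/-- Row4. -/
def row4 : List V := row4Part0 ++ row4Part1 ++ row4Part2 ++ row4Part3 ++ row4Part4 ++ row4Part5 ++ row4Part6 ++ row4Part7 ++ row4Part8 ++ row4Part9 ++ row4Part10 ++ row4Part11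

end CfsgLib.MathieuBlock.D22
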