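import Cfsg.Agent.MathieuBlock.Check
set_option autoImplicit false
set_option maxRecDepth 20000

/-!
Certificate data for the 2-block of M22 (found by a computer search, checked by the kernel).
-/

namespace CfsgLib.MathieuBlock.D22

open CfsgLib.Golay CfsgLib.MathieuTwo

/-- Chunk. -/
def row5Part0 : List V := [.conj 5 [0, 22, 43, 63], .even 1 8, .conj 3 [0, 40, 49, 87], .conj 0 [7, 33, 57, 75], .conj 5 [3, 31, 62, 90], .conj 2 [0, 26, 49, 104], .conj 3 [0, 29, 59, 106], .conj 0 [0, 22, 58, 92], .conj 2 [0, 29, 45, 106], .conj 4 [3, 24, 53, 65], .conj 2 [0, 22, 62, 72], .even 1 4, .even 1 8, .conj 3 [7, 23, 60, 110], .even 1 8, .conj 5 [0, 34, 60, 67], .conj 0 [7, 42, 46, 66], .even 1 6, .even 1 2, .even 2 6, .conj 5 [3, 41, 48, 91], .conj 2 [5, 25, 49, 65], .conj 3 [4, 28, 62, 104], .even 1 4, .conj 0 [0, 29, 52, 64], .conj 4 [14, 29, 58, 95], .conj 4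 [3, 42, 59, 76], .conj 5 [3, 39, 53, 91], .conj 3 [0, 28, 58, 91], .conj 4 [0, 25, 47, 97], .conj 4 [0, 38, 55, 74], .conj 1 [0, 22, 48, 87], .even 1 8, .even 1 6, .conj 4 [0, 42, 59, 93], .conj 3 [7, 22, 44, 75], .even 1 8, .conj 5 [3, 31, 62, 94], .conj 0 [0, 31, 47, 67], .conj 0 [3, 25, 51, 86], .conj 5 [0, 37, 52, 64], .conj 3 [7, 26, 59, 98], .conj 3 [4, 42, 49, 104], .conj 2 [0, 39, 60, 97], .even 1 8, .even 1 6, .conj 4 [5, 41, 57, 71], .conj 0 [0, 27, 51, 74], .conj 2 [0, 29, 49, 99], .conj 4 [3, 28, 54, 102], .conj 2 [5, 23, 55, 71], .conj 0 [0, 37, 44, 101], .even 1 4, .conj 3 [4, 27, 47, 85], .even 1 8, .conj 4 [14, 42, 45, 67], .conj 2 [0, 40, 51, 92], .even 1 8, .even 1 6, .conj 4 [14, 31, 57, 71], .even 1 4, .conj 1 [3, 33, 53, 81], .conj 3 [7, 33, 48, 72], .conj 0 [3, 36, 61, 91], .conj 3 [0, 33, 52, 76], .conj 3 [7, 36, 48, 64], .even 1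 4, .even 1 6, .conj 0 [7, 36, 44, 103], .conj 3 [7, 34, 49, 102], .conj 5 [3, 28, 58, 80], .even 1 8, .conj 0 [7, 42, 46, 104], .conj 0 [7, 39, 45, 89], .even 1 2, .conj 5 [3, 33, 60, 97], .conj 0 [7, 24, 60, 68], .even 1 4, .conj 4 [0, 26, 60, 108], .conj 2 [5, 36, 60, 99], .even 2 6, .even 1 4, .even 1 6, .even 2 6, .even 3 2, .conj 2 [0, 34, 60, 82], .conj 4 [5, 32, 43, 78], .even 1 8, .conj 4 [5, 27, 54, 88], .conj 4 [5, 27, 53, 97], .even 1 4, .conj 5 [0, 26, 58, 63], .conj 2 [5, 36, 45, 77], .conj 5 [0, 24, 51, 93], .even 1 2, .conj 0 [3, 38, 52, 83], .even 1 8, .conj 3 [4, 24, 60, 93], .even 3 6, .conj 5 [0, 39, 43, 78]]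

/-- Chunk. -/
def row5Part1 : List V := [.even 1 6, .even 1 8, .even 1 4, .even 1 4, .conj 4 [14, 29, 43, 69], .conj 0 [7, 37, 49, 66], .even 1 8, .conj 0 [20, 35, 52, 72], .conj 2 [5, 42, 59, 102], .conj 2 [5, 33, 57, 69], .conj 0 [7, 23, 43, 79], .conj 0 [3, 26, 44, 63], .even 1 6, .conj 3 [4, 38, 49, 71], .conj 2 [5, 23, 50, 105], .conj 5 [0, 26, 54, 79], .even 1 8, .even 1 8, .conj 0 [7, 33, 54, 85], .conj 4 [3, 37, 60, 98], .even 1 8, .even 1 8, .conj 5 [3, 37, 62, 70], .even 2 4, .conj 4 [3, 42, 56, 73], .even 1 2, .conj 2 [0, 35, 50, 65], .even 1 4, .even 1 8, .even 1 4, .even 1 8, .even 1 8, .conj 4 [0, 22, 43, 88], .conj 5 [3, 41, 48, 66], .even 1 8, .conj 2 [0, 42, 57, 103], .even 2 4, .conj 4 [14, 29, 44, 65], .conj 3 [0, 31, 58, 90], .conj 3 [7, 41, 58, 71], .conj 0 [3, 29, 44, 109], .even 1 8, .conj 2 [5, 33, 54, 102], .conj 3 [7, 42, 56,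 83], .conj 4 [6, 27, 54, 107], .even 1 8, .even 1 8, .conj 4 [3, 35, 50, 99], .conj 2 [0, 37, 47, 69], .conj 4 [5, 40, 48, 94], .even 1 8, .even 1 4, .even 1 8, .even 1 6, .even 1 8, .conj 0 [0, 35, 49, 90], .even 2 2, .conj 0 [20, 28, 58, 97], .conj 5 [3, 42, 58, 67], .even 1 8, .conj 5 [0, 35, 52, 104], .conj 2 [5, 33, 60, 92], .conj 5 [3, 42, 53, 109], .conj 4 [5, 27, 62, 94], .conj 3 [7, 41, 59, 97], .conj 2 [5, 33, 52, 71], .even 1 8, .conj 0 [3, 29, 60, 77], .conj 0 [3, 26, 45, 89], .even 1 4, .conj 0 [7, 37, 51, 87], .conj 5 [3, 29, 53, 75], .conj 5 [3, 31, 53, 90], .conj 4 [3, 25, 48, 85], .even 1 2, .conj 5 [3, 31, 60, 105], .even 1 6, .conj 0 [3, 42, 60, 68], .conj 0 [0, 36, 52, 89], .conj 3 [4, 22, 53, 87], .even 1 6, .conj 2 [5, 22, 59, 73], .conj 3 [4, 33, 55, 102], .conj 0 [7, 23, 55, 94], .conj 5 [0, 37, 59, 91], .even 1 8, .even 1 8, .conj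 5 [0, 22, 55, 75], .conj 3 [0, 32, 53, 78], .conj 3 [4, 34, 55, 92], .even 1 4, .conj 2 [0, 26, 52, 71], .conj 3 [8, 42, 51, 103], .even 1 6, .conj 4 [5, 24, 62, 83], .even 1 8, .conj 3 [7, 42, 55, 80], .conj 0 [7, 37, 53, 98], .even 1 6, .conj 4 [5, 33, 46, 92]]

/-- Chunk. -/
def row5Part2 : List V := [.even 1 8, .conj 0 [0, 34, 50, 107], .conj 4 [3, 25, 51, 97], .conj 3 [0, 22, 55, 83], .conj 4 [14, 29, 52, 88], .conj 2 [0, 22, 43, 85], .conj 0 [7, 30, 55, 69], .even 1 8, .even 1 2, .conj 0 [3, 26, 60, 92], .conj 2 [0, 40, 49, 96], .even 1 8, .even 1 2, .conj 0 [7, 26, 55, 104], .conj 3 [0, 26, 59, 105], .even 1 6, .conj 5 [0, 41, 59, 76], .even 1 8, .conj 2 [5, 33, 46, 95], .conj 3 [0, 28, 62, 95], .even 1 4, .conj 1 [0, 33, 56, 74], .conj 0 [7, 24, 58, 107], .conj 4 [13, 25, 43, 75], .conj 4 [3, 42, 46, 83], .conj 3 [0, 42, 53, 102], .conj 5 [3, 31,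 58, 63], .even 1 6, .even 1 8, .conj 3 [7, 42, 48, 94], .even 1 8, .conj 0 [7, 39, 55, 74], .conj 0 [7, 37, 61, 110], .even 1 8, .even 1 6, .conj 3 [0, 27, 52, 99], .conj 4 [14, 23, 57, 74], .conj 2 [0, 22, 43, 78], .conj 2 [5, 24, 50, 110], .conj 3 [4, 41, 55, 95], .even 1 8, .conj 0 [3, 22, 56, 107], .even 1 8, .conj 0 [7, 37, 52, 70], .even 1 8, .conj 2 [5, 35, 43, 75], .conj 0 [7, 22, 51, 104], .conj 5 [3, 31, 44, 103], .even 1 8, .even 2 6, .conj 3 [0, 25, 51, 90], .even 1 8, .even 1 8, .even 2 2, .conj 2 [0, 40, 53, 102], .even 3 6, .even 1 8, .conj 0 [0, 25, 53, 81], .conj 3 [8, 35, 57, 79], .even 1 6, .conj 0 [3, 26, 43, 86], .conj 3 [4, 24, 59, 97], .conj 0 [0, 22, 43, 109], .even 1 2, .conj 3 [7, 37, 46, 88], .conj 2 [5, 24, 57, 92], .even 1 2, .conj 5 [0, 33, 54, 73], .conj 2 [5, 30, 50, 89], .even 1 4, .conj 4 [14, 33, 43, 103], .conj 2 [5,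 33, 56, 81], .even 1 6, .conj 3 [7, 31, 59, 74], .conj 2 [5, 37, 43, 92], .even 1 8, .conj 5 [0, 37, 62, 75], .even 1 8, .conj 3 [4, 40, 44, 104], .conj 5 [3, 38, 60, 94], .conj 4 [3, 32, 50, 80], .even 3 6, .even 1 8, .conj 0 [3, 23, 54, 70], .conj 0 [0, 40, 55, 108], .conj 3 [7, 42, 57, 66], .conj 2 [0, 30, 53, 74], .conj 0 [0, 28, 61, 94], .conj 3 [0, 40, 57, 68], .even 1 4, .conj 0 [7, 34, 57, 85], .even 1 8, .conj 3 [7, 42, 56, 107], .conj 2 [0, 32, 52, 88], .conj 3 [0, 22, 57, 107], .even 1 2, .even 1 6, .even 3 6, .even 1 2, .even 1 4]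

/-- Chunk. -/
def row5Part3 : List V := [.even 1 4, .conj 4 [14, 29, 51, 63], .conj 2 [0, 24, 62, 66], .conj 4 [0, 22, 43, 95], .conj 2 [5, 38, 59, 89], .even 1 8, .conj 3 [7, 24, 57, 64], .even 1 6, .conj 0 [7, 38, 56, 91], .even 3 6, .conj 0 [3, 26, 57, 63], .conj 0 [7, 39, 49, 67], .even 1 8, .even 1 4, .conj 3 [4, 34, 50, 106], .conj 0 [0, 28, 59, 87], .even 1 8, .conj 4 [3, 41, 57, 78], .conj 3 [4, 39, 49, 72], .conj 3 [8, 29, 43, 70], .conj 4 [3, 34, 51, 98], .conj 4 [0, 22, 56, 92], .conj 0 [3, 24, 45, 83], .conj 4 [14, 31, 48, 65], .conj 1 [3, 30, 62, 64], .conj 3 [4, 31, 61, 96], .conj 0 [0, 38, 44, 82], .conj 4 [14, 28, 62, 82], .conj 3 [4, 24, 53, 92], .conj 3 [7, 39, 62, 85], .conj 4 [14, 36, 58, 95], .conj 3 [4, 32, 44, 66], .conj 4 [3, 37, 43, 87], .conj 4 [14, 34, 60, 69], .conj 1 [0, 42, 54, 93], .conj 3 [0, 22, 43, 103], .conj 3 [4, 38,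 59, 88], .conj 0 [3, 30, 52, 82], .conj 4 [0, 22, 62, 66], .conj 3 [7, 28, 60, 92], .conj 0 [7, 37, 61, 81], .conj 4 [5, 23, 57, 65], .conj 4 [5, 23, 50, 94], .even 1 2, .even 1 2, .conj 0 [0, 22, 58, 75], .conj 4 [5, 27, 46, 92], .conj 4 [0, 22, 43, 66], .conj 4 [5, 42, 53, 95], .even 1 2, .conj 3 [4, 24, 62, 98], .conj 3 [0, 22, 51, 76], .even 1 4, .conj 4 [14, 28, 56, 101], .conj 0 [0, 22, 45, 101], .conj 4 [13, 27, 62, 72], .even 1 4, .conj 3 [0, 26, 56, 80], .conj 4 [3, 37, 48, 93], .even 1 4, .conj 4 [0, 42, 51, 108], .conj 2 [5, 33, 44, 63], .even 1 8, .conj 3 [0, 35, 55, 76], .even 1 6, .even 1 8, .even 1 2, .conj 3 [0, 22, 50, 74], .even 1 8, .conj 0 [7, 27, 55, 107], .conj 4 [5, 27, 44, 63], .conj 2 [0, 22, 43, 80], .conj 4 [14, 33, 57, 104], .conj 2 [5, 39, 45, 104], .conj 3 [7, 24, 57, 95], .conj 4 [3, 42, 45, 74], .conj 3 [7, 23, 55, 95], .conj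 3 [4, 40, 44, 92], .conj 4 [14, 41, 62, 71], .conj 2 [5, 35, 49, 78], .even 3 2, .conj 4 [3, 42, 60, 84], .conj 0 [3, 34, 49, 95], .conj 0 [0, 35, 57, 104], .conj 3 [7, 36, 61, 73], .even 1 8, .conj 0 [0, 39, 45, 73], .even 1 4, .conj 0 [3, 41, 59, 95], .conj 4 [14, 37, 62, 82], .conj 4 [13, 27, 44, 97], .conj 2 [0, 38, 45, 99], .conj 5 [3, 31, 60, 63], .even 1 8, .conj 0 [0, 33, 47, 71], .conj 5 [0, 22, 59, 83], .even 1 4, .even 2 2, .conj 2 [5, 29, 44, 71], .even 2 6]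

/-- Chunk. -/
def row5Part4 : List V := [.conj 4 [3, 35, 50, 95], .conj 0 [3, 33, 43, 69], .even 1 6, .conj 4 [5, 32, 44, 73], .conj 2 [0, 32, 44, 65], .even 1 2, .conj 4 [14, 34, 56, 99], .even 1 8, .conj 2 [5, 38, 49, 82], .even 1 8, .conj 4 [13, 42, 44, 88], .conj 3 [4, 40, 44, 64], .conj 2 [0, 30, 53, 95], .conj 2 [5, 30, 60, 106], .conj 2 [5, 30, 53, 103], .even 1 8, .conj 5 [3, 31, 53, 107], .conj 4 [14, 29, 48, 66], .even 1 8, .even 1 6, .even 1 2, .conj 0 [3, 30, 50, 76], .conj 3 [0, 35, 54, 93], .conj 5 [3, 35, 45, 109], .conj 5 [3, 41, 48, 80], .even 1 6, .even 1 2, .even 1 6, .even 1 8, .even 1 6, .conj 4 [5, 42, 44, 70], .even 1 2, .conj 5 [3, 32, 55, 69], .even 3 6, .conj 2 [0, 22, 49, 79], .even 1 4, .conj 4 [0, 22, 51, 109], .even 1 4, .even 1 8, .even 1 8, .even 1 2, .even 1 4, .conj 3 [0, 27, 48, 65], .conj 3 [4, 24, 59, 63], .conj 0 [7,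 31, 54, 105], .even 1 2, .even 1 2, .conj 0 [0, 36, 57, 82], .conj 0 [7, 30, 50, 64], .conj 4 [5, 27, 57, 85], .conj 4 [0, 22, 44, 106], .conj 4 [0, 30, 62, 65], .conj 4 [0, 22, 46, 88], .conj 1 [7, 25, 43, 98], .conj 4 [5, 27, 44, 98], .conj 4 [14, 23, 57, 93], .conj 3 [0, 31, 45, 109], .even 1 2, .conj 4 [14, 35, 59, 107], .conj 0 [0, 32, 46, 97], .conj 4 [0, 36, 53, 86], .conj 3 [4, 26, 54, 83], .conj 3 [0, 22, 43, 82], .conj 0 [0, 28, 61, 105], .conj 4 [3, 42, 57, 87], .conj 0 [3, 25, 53, 78], .conj 3 [7, 42, 44, 84], .conj 3 [0, 22, 53, 95], .conj 4 [14, 32, 56, 108], .conj 4 [3, 31, 48, 107], .even 1 4, .conj 4 [3, 31, 60, 69], .conj 4 [0, 28, 54, 110], .conj 3 [4, 34, 56, 103], .conj 3 [7, 42, 56, 69], .even 1 2, .conj 4 [0, 40, 48, 108], .conj 4 [0, 22, 58, 99], .conj 3 [0, 39, 53, 63], .conj 4 [14, 40, 51, 82], .conj 1 [3, 29, 48, 105], .conj 3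 [4, 30, 52, 67], .even 1 2, .conj 2 [0, 22, 58, 67], .conj 0 [0, 24, 56, 82], .conj 4 [5, 27, 46, 74], .conj 0 [7, 37, 46, 108], .conj 3 [7, 32, 46, 97], .conj 4 [13, 35, 45, 79], .conj 3 [7, 42, 44, 76], .even 1 4, .conj 0 [0, 25, 49, 74], .conj 2 [0, 28, 61, 78], .conj 3 [7, 28, 60, 101], .conj 5 [3, 31, 54, 95], .even 1 8, .conj 0 [3, 28, 45, 104], .conj 4 [13, 27, 62, 79], .conj 3 [8, 42, 49, 64], .conj 4 [5, 22, 52, 98]]

/-- Chunk. -/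
def row5Part5 : List V := [.conj 2 [5, 33, 58, 98], .conj 4 [0, 42, 62, 74], .even 2 6, .even 1 4, .even 1 8, .conj 3 [0, 26, 49, 67], .conj 0 [0, 29, 50, 74], .conj 2 [0, 22, 54, 99], .conj 2 [5, 35, 45, 71], .conj 3 [4, 31, 43, 107], .even 1 8, .conj 4 [6, 23, 53, 69], .conj 2 [0, 26, 47, 89], .conj 2 [5, 33, 47, 70], .conj 0 [0, 22, 55, 99], .conj 4 [5, 30, 58, 85], .even 1 4, .conj 4 [0, 31, 57, 98], .conj 0 [3, 23, 48, 98], .conj 2 [0, 36, 46, 86], .conj 5 [0, 26, 44, 69], .conj 2 [0, 29, 50, 109], .conj 3 [4, 28, 60, 107], .even 1 8, .conj 0 [0, 42, 59, 86], .conj 2 [5, 32, 44, 80], .even 2 6, .conj 0 [7, 40, 47, 65], .conj 0 [7, 30, 46, 102], .even 1 4, .conj 3 [0, 35, 58, 69], .conj 4 [5, 42, 48, 110], .even 1 8, .conj 0 [3, 42, 53, 71], .conj 2 [5, 33, 46, 74], .conj 0 [0, 22, 58, 97], .even 3 6, .conj 0 [7, 37, 56, 107], .conj 3 [0, 25, 57, 66],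 .conj 3 [4, 33, 62, 65], .even 1 8, .conj 3 [0, 27, 49, 69], .even 1 4, .conj 2 [5, 24, 52, 76], .conj 3 [8, 42, 57, 102], .conj 2 [0, 22, 59, 95], .conj 0 [3, 26, 60, 101], .conj 5 [3, 31, 60, 85], .conj 0 [7, 37, 43, 91], .even 1 2, .conj 2 [5, 36, 54, 63], .even 1 4, .conj 2 [0, 34, 58, 82], .even 1 6, .conj 3 [7, 42, 46, 66], .conj 3 [7, 42, 48, 92], .conj 5 [3, 31, 58, 69], .even 1 8, .even 1 6, .conj 2 [0, 41, 49, 75], .conj 4 [3, 24, 48, 68], .conj 4 [0, 41, 60, 85], .even 1 2, .conj 0 [3, 36, 56, 69], .conj 2 [0, 22, 43, 98], .conj 0 [7, 26, 61, 86], .conj 3 [4, 28, 46, 90], .conj 0 [3, 26, 47, 101], .even 1 4, .even 1 4, .conj 3 [7, 42, 54, 87], .conj 5 [3, 32, 47, 97], .conj 3 [8, 42, 50, 71], .conj 0 [3, 26, 52, 70], .conj 4 [3, 40, 51, 65], .conj 4 [5, 27, 51, 87], .conj 5 [3, 31, 55, 71], .conj 3 [4, 38, 51, 80], .conj 0 [0, 22, 43, 85], .even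 1 8, .conj 2 [5, 30, 60, 83], .even 2 6, .even 1 8, .even 1 6, .conj 4 [0, 36, 55, 93], .conj 2 [0, 24, 52, 82], .conj 5 [3, 25, 50, 68], .conj 5 [3, 31, 52, 64], .even 1 8, .conj 1 [3, 32, 47, 83], .conj 0 [0, 31, 49, 68], .conj 4 [0, 30, 47, 96], .conj 5 [0, 40, 55, 108], .conj 2 [5, 39, 48, 84], .conj 3 [4, 24, 55, 107], .conj 3 [0, 27, 61, 99], .even 1 2, .conj 5 [3, 34, 54, 72], .conj 4 [0, 24, 61, 105], .even 1 8]

/-- Chunk. -/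
def row5Part6 : List V := [.even 1 8, .even 1 8, .even 1 8, .even 1 4, .conj 2 [5, 41, 45, 83], .conj 2 [5, 29, 56, 105], .conj 4 [0, 39, 56, 90], .conj 2 [5, 40, 46, 72], .conj 4 [13, 25, 60, 65], .conj 0 [3, 26, 54, 89], .conj 4 [3, 42, 45, 86], .even 1 8, .even 1 8, .conj 5 [0, 22, 48, 108], .even 1 8, .conj 2 [5, 22, 56, 88], .even 1 4, .even 1 6, .conj 3 [4, 28, 50, 66], .conj 2 [5, 29, 59, 108], .conj 5 [0, 24, 48, 84], .even 1 8, .conj 5 [0, 32, 53, 69], .conj 4 [5, 29, 43, 98], .conj 3 [8, 29, 45, 87], .even 1 8, .conj 4 [3, 36, 50, 88], .conj 3 [4, 24, 47, 63], .conj 4 [6, 31, 50, 88], .conj 0 [3, 24, 46, 86], .even 1 4, .even 1 4, .conj 5 [0, 30, 61, 67], .even 1 4, .even 1 6, .conj 4 [5, 27, 61, 105], .conj 2 [5, 33, 46, 63], .conj 4 [5, 33, 46, 73], .conj 0 [20, 28, 47, 94], .even 1 8, .even 2 2, .even 1 8, .even 1 4, .conj 4 [0, 22, 61, 91],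 .even 1 2, .conj 2 [0, 35, 52, 105], .even 1 4, .conj 4 [3, 42, 60, 87], .conj 4 [3, 42, 50, 90], .even 1 4, .conj 5 [3, 34, 48, 84], .even 1 6, .conj 2 [0, 33, 48, 78], .conj 3 [4, 24, 59, 67], .even 2 6, .conj 4 [3, 42, 62, 99], .conj 0 [7, 41, 55, 81], .even 2 6, .even 1 6, .conj 5 [0, 28, 49, 90], .conj 5 [0, 29, 54, 68], .conj 0 [3, 31, 45, 98], .conj 0 [7, 37, 46, 97], .even 1 6, .conj 0 [0, 37, 44, 78], .conj 2 [5, 41, 52, 99], .conj 0 [3, 26, 46, 94], .even 1 6, .conj 4 [0, 24, 51, 87], .even 1 8, .conj 0 [7, 40, 47, 85], .even 1 4, .conj 2 [0, 36, 60, 92], .even 1 8, .even 1 8, .even 1 4, .conj 5 [3, 36, 47, 91], .conj 2 [0, 31, 55, 81], .even 1 8, .conj 3 [0, 30, 49, 65], .even 2 4, .even 1 8, .conj 4 [3, 22, 49, 102], .conj 2 [0, 35, 43, 104], .even 1 8, .even 1 8, .even 1 6, .conj 0 [7, 26, 56, 108], .conj 4 [3, 38, 44, 103], .conj 0 [7, 27,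 49, 74], .conj 3 [0, 22, 53, 71], .conj 0 [7, 35, 54, 67], .conj 2 [5, 33, 46, 65], .even 1 2, .conj 5 [3, 36, 55, 98], .conj 0 [3, 26, 45, 106], .even 1 4, .conj 3 [0, 29, 59, 78], .conj 3 [0, 22, 56, 72], .even 1 6]

/-- Chunk. -/
def row5Part7 : List V := [.even 1 4, .even 1 4, .even 1 4, .conj 3 [0, 30, 59, 75], .even 1 4, .conj 3 [7, 25, 57, 71], .even 1 8, .conj 3 [7, 28, 43, 91], .even 1 6, .conj 4 [14, 41, 58, 68], .even 1 8, .conj 3 [4, 41, 55, 71], .conj 4 [0, 22, 59, 85], .even 2 6, .conj 0 [20, 23, 55, 106], .conj 0 [7, 37, 62, 81], .conj 0 [0, 22, 43, 97], .conj 4 [0, 34, 53, 106], .conj 5 [3, 23, 48, 87], .conj 4 [5, 28, 59, 90], .even 1 6, .conj 3 [4, 40, 44, 73], .conj 2 [5, 26, 44, 92], .conj 2 [0, 27, 48, 85], .conj 0 [0, 41, 46, 66], .even 1 4, .even 1 6, .conj 3 [8, 35, 54, 90], .even 1 2, .even 1 8, .even 1 6, .even 1 8, .conj 3 [4,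 37, 48, 63], .conj 4 [0, 28, 54, 72], .conj 0 [7, 37, 46, 87], .conj 4 [5, 27, 46, 77], .even 1 8, .conj 0 [3, 25, 51, 76], .conj 2 [0, 22, 49, 95], .conj 2 [5, 33, 50, 89], .conj 4 [5, 30, 58, 65], .even 1 6, .conj 4 [14, 29, 56, 88], .conj 3 [7, 42, 57, 70], .conj 5 [0, 34, 60, 79], .conj 2 [5, 40, 44, 100], .conj 3 [7, 32, 45, 107], .even 1 8, .even 1 6, .conj 0 [7, 37, 50, 85], .conj 5 [0, 29, 44, 73], .conj 3 [0, 22, 43, 85], .conj 2 [5, 33, 62, 87], .conj 5 [3, 30, 46, 97], .conj 5 [3, 26, 61, 94], .even 1 4, .conj 0 [3, 42, 59, 83], .conj 2 [5, 42, 60, 75], .conj 2 [0, 27, 60, 97], .conj 0 [3, 27, 62, 78], .even 1 6, .even 2 2, .conj 4 [0, 39, 56, 74], .even 1 8, .even 1 8, .conj 4 [5, 36, 61, 86], .conj 2 [0, 32, 48, 98], .conj 0 [7, 34, 45, 96], .conj 5 [0, 38, 47, 94], .even 2 4, .conj 0 [3, 22, 58, 96], .conj 5 [0, 38, 59, 106], .conj 0 [7, 40,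 47, 70], .even 2 6, .conj 5 [0, 22, 45, 67], .even 1 8, .even 1 2, .conj 5 [0, 22, 57, 83], .conj 5 [0, 31, 50, 80], .conj 3 [0, 41, 59, 73], .conj 3 [0, 22, 48, 92], .conj 3 [0, 22, 43, 63], .conj 2 [5, 33, 51, 105], .even 1 6, .conj 0 [0, 40, 58, 68], .conj 4 [3, 25, 51, 89], .conj 0 [3, 22, 52, 85], .conj 5 [0, 41, 61, 74], .conj 4 [14, 39, 52, 78], .conj 3 [7, 42, 60, 79], .even 1 2, .conj 0 [7, 37, 46, 88], .even 1 8, .conj 0 [3, 34, 50, 87], .even 1 4, .conj 2 [0, 37, 45, 107], .conj 3 [0, 40, 50, 89], .conj 3 [7, 22, 59, 69], .conj 3 [7, 40, 61, 69], .conj 2 [0, 22, 60, 99]]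

/-- Chunk. -/
def row5Part8 : List V := [.even 2 6, .conj 3 [7, 33, 49, 106], .conj 5 [3, 24, 51, 98], .conj 3 [4, 27, 57, 73], .even 1 2, .conj 0 [0, 28, 53, 104], .conj 0 [0, 32, 58, 85], .conj 3 [7, 37, 49, 63], .conj 0 [7, 27, 48, 93], .conj 3 [4, 35, 47, 77], .conj 5 [3, 29, 54, 83], .conj 2 [5, 39, 48, 65], .conj 4 [3, 30, 43, 80], .conj 3 [7, 25, 46, 64], .conj 5 [3, 31, 60, 108], .conj 5 [3, 31, 49, 74], .even 1 8, .even 1 2, .conj 0 [0, 41, 46, 77], .conj 0 [0, 39, 56, 77], .even 4 2, .conj 4 [14, 29, 62, 74], .even 1 4, .conj 5 [0, 22, 46, 82], .even 2 4, .even 1 2, .even 1 4, .even 1 8, .even 1 6, .conj 2 [5, 23, 44, 88], .conj 3 [7, 27, 50, 90], .conj 3 [7, 38, 57, 109], .even 1 4, .conj 0 [3, 24, 55, 94], .conj 0 [3, 26, 45, 64], .conj 0 [7, 29, 46, 90], .conj 3 [0, 22, 49, 69], .conj 5 [3, 24, 61, 109], .conj 5 [0, 22, 47, 96], .even 1 6,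 .conj 5 [3, 24, 49, 75], .conj 0 [3, 26, 47, 93], .even 1 4, .conj 3 [0, 41, 62, 67], .conj 3 [7, 27, 52, 86], .conj 0 [7, 33, 53, 96], .conj 0 [0, 22, 43, 65], .conj 3 [4, 24, 55, 87], .even 1 8, .conj 4 [14, 25, 57, 108], .even 1 8, .even 1 6, .conj 4 [14, 42, 44, 67], .even 1 8, .conj 4 [14, 32, 62, 63], .even 2 6, .conj 5 [0, 37, 50, 90], .even 1 8, .even 1 8, .even 1 8, .even 1 2, .conj 3 [7, 41, 47, 100], .conj 3 [0, 38, 45, 102], .even 2 6, .conj 5 [0, 25, 53, 74], .even 1 4, .conj 4 [5, 34, 51, 89], .conj 2 [5, 28, 56, 69], .conj 2 [0, 40, 46, 109], .conj 3 [7, 36, 62, 104], .conj 4 [14, 29, 62, 94], .conj 3 [4, 37, 44, 63], .even 1 8, .conj 4 [5, 27, 56, 78], .conj 2 [0, 29, 51, 85], .conj 0 [7, 24, 54, 75], .conj 5 [0, 29, 47, 94], .conj 3 [4, 24, 45, 83], .conj 5 [3, 33, 43, 102], .even 1 6, .conj 4 [3, 35, 50, 80], .even 1 8, .conj 0 [3, 26,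 61, 85], .conj 2 [0, 27, 59, 77], .even 1 8, .conj 5 [0, 36, 50, 97], .conj 3 [4, 41, 55, 72], .conj 3 [4, 41, 61, 100], .even 1 6, .conj 4 [3, 28, 58, 100], .even 1 8, .even 1 6, .even 1 8, .conj 2 [5, 34, 62, 76], .even 1 8, .even 2 6, .even 1 8, .even 1 4, .conj 5 [0, 30, 47, 84], .conj 4 [13, 42, 52, 92]]

/-- Chunk. -/
def row5Part9 : List V := [.even 1 8, .even 1 6, .conj 3 [4, 40, 44, 88], .even 1 4, .conj 2 [0, 22, 43, 106], .conj 4 [14, 24, 47, 78], .conj 5 [3, 32, 49, 88], .conj 5 [3, 31, 49, 100], .conj 2 [5, 33, 52, 85], .even 1 2, .even 1 8, .conj 4 [5, 26, 59, 88], .conj 4 [13, 25, 51, 79], .even 1 4, .conj 4 [14, 41, 51, 91], .conj 0 [7, 36, 47, 74], .conj 4 [14, 29, 46, 69], .conj 4 [14, 23, 57, 106], .conj 0 [0, 22, 45, 85], .conj 4 [5, 26, 59, 104], .conj 0 [3, 26, 56, 78], .conj 1 [7, 31, 44, 95], .conj 4 [3, 25, 47, 65], .even 1 4, .conj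 4 [0, 38, 50, 94], .conj 4 [5, 37, 51, 88], .conj 3 [0, 33, 59, 65], .conj 1 [3, 31, 58, 74], .conj 3 [7, 42, 56, 71], .conj 4 [6, 40, 47, 109], .even 1 6, .even 1 8, .even 1 4, .conj 5 [3, 37, 53, 108], .conj 0 [3, 42, 45, 66], .conj 4 [14, 37, 62, 78], .conj 5 [0, 26, 45, 83], .even 1 4, .even 1 6, .conj 3 [4, 24, 49, 105], .conj 2 [5, 33, 53, 71], .even 1 2, .conj 3 [4, 24, 59, 85], .even 1 4, .even 1 2, .conj 4 [6, 31, 49, 101], .conj 5 [3, 24, 50, 109], .conj 4 [0, 27, 45, 64], .even 1 2, .conj 0 [0, 36, 62, 80], .conj 0 [0, 22, 55, 68], .conj 3 [0, 34, 57, 68], .conj 4 [13, 42, 44, 80], .conj 2 [5, 31, 59, 72], .even 1 2, .conj 0 [3, 35, 47, 77], .conj 3 [4, 24, 47, 74], .conj 2 [0, 22, 46, 78], .even 1 8, .even 1 8, .even 1 8, .conj 2 [5, 23, 47, 109], .conj 0 [7, 29, 44, 68], .conj 0 [7, 41, 55, 74], .even 1 2, .conj 4 [0, 22, 51, 70], .even 1 8,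 .even 1 4, .conj 4 [14, 29, 46, 94], .even 2 6, .conj 3 [4, 22, 62, 92], .conj 0 [0, 28, 47, 105], .even 1 4, .even 1 4, .conj 5 [3, 30, 57, 96], .even 1 2, .conj 5 [3, 31, 60, 68], .conj 4 [5, 35, 49, 94], .conj 0 [0, 42, 57, 70], .conj 2 [0, 30, 53, 81], .conj 0 [7, 28, 62, 65], .even 1 8, .even 1 8, .conj 2 [0, 24, 62, 72], .conj 4 [5, 25, 55, 87], .conj 4 [14, 29, 46, 68], .conj 2 [0, 22, 45, 66], .conj 0 [7, 34, 47, 88], .conj 2 [5, 38, 57, 105], .conj 3 [0, 42, 59, 82], .conj 5 [0, 32, 49, 87], .even 1 6, .even 1 4, .even 1 8, .conj 3 [4, 29, 54, 76], .conj 3 [0, 29, 59, 68], .even 1 8, .even 1 8, .even 1 2, .even 1 8]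

/-- Chunk. -/
def row5Part10 : List V := [.even 1 8, .even 1 4, .conj 3 [0, 22, 62, 83], .conj 5 [3, 31, 51, 67], .conj 0 [3, 26, 45, 80], .even 1 2, .conj 2 [5, 34, 54, 67], .conj 2 [0, 33, 44, 96], .even 1 4, .conj 5 [3, 34, 62, 80], .conj 4 [5, 23, 56, 102], .conj 3 [7, 42, 43, 92], .even 1 2, .even 1 6, .conj 3 [4, 36, 56, 99], .conj 3 [4, 39, 43, 86], .even 4 6, .conj 4 [0, 28, 44, 96], .conj 0 [0, 31, 49, 98], .conj 4 [0, 37, 60, 78], .conj 4 [5, 40, 50, 105], .conj 4 [3, 42, 49, 88], .conj 3 [4, 27, 56, 63], .conj 4 [3, 42, 45, 109], .even 1 4, .even 1 4, .conj 4 [14, 37, 45, 86], .even 1 4, .conj 4 [5, 37, 44, 95], .conj 0 [3, 34, 50, 86], .conj 0 [7, 24, 43, 76], .even 1 4, .conj 0 [0, 35, 57, 76], .even 1 4, .conj 2 [0, 22, 47, 78], .even 1 2, .even 1 6, .conj 0 [20, 23, 44, 81], .conj 0 [3, 31, 49, 78], .conj 2 [5, 33, 46, 66], .even 1 8, .even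 1 8, .conj 2 [0, 38, 43, 109], .conj 5 [0, 25, 62, 68], .conj 4 [5, 30, 58, 94], .conj 1 [3, 32, 60, 75], .conj 4 [14, 33, 44, 91], .even 1 8, .conj 0 [3, 26, 51, 103], .conj 4 [3, 29, 53, 70], .conj 5 [0, 35, 55, 76], .even 1 6, .conj 2 [0, 38, 44, 105], .conj 5 [3, 31, 50, 65], .conj 0 [0, 26, 52, 75], .conj 3 [8, 42, 55, 95], .even 1 8, .conj 3 [4, 23, 54, 81], .conj 2 [5, 33, 56, 94], .even 1 8, .conj 0 [20, 28, 58, 75], .conj 0 [3, 28, 46, 66], .conj 3 [0, 22, 57, 73], .even 1 8, .even 1 6, .conj 0 [7, 37, 49, 94], .conj 2 [0, 33, 60, 92], .conj 0 [7, 35, 56, 69], .even 1 6, .conj 5 [0, 30, 60, 99], .even 1 4, .conj 5 [0, 33, 54, 75], .conj 3 [0, 40, 46, 82], .conj 2 [0, 25, 62, 90], .conj 0 [7, 37, 45, 83], .conj 2 [0, 37, 48, 76], .conj 5 [3, 28, 61, 104], .conj 3 [7, 42, 45, 73], .conj 2 [5, 34, 61, 63], .conj 3 [0, 37, 44, 88], .even 1 6, .conj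 4 [14, 22, 49, 67], .conj 0 [0, 39, 61, 98], .conj 0 [3, 34, 61, 83], .conj 4 [3, 24, 47, 98], .conj 2 [5, 22, 47, 99], .even 1 2, .even 1 6, .even 2 2, .conj 3 [7, 36, 50, 72], .conj 2 [0, 42, 62, 72], .conj 2 [5, 24, 46, 80], .conj 0 [0, 40, 49, 82], .conj 3 [4, 34, 48, 101], .conj 3 [0, 26, 45, 73], .conj 4 [3, 38, 45, 79], .conj 3 [4, 30, 57, 68], .conj 0 [0, 24, 58, 105], .conj 4 [14, 36, 58, 96], .conj 0 [0, 39, 60, 92]]

/-- Chunk. -/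
def row5Part11 : List V := [.even 1 2, .conj 4 [0, 26, 44, 107], .conj 5 [3, 39, 52, 96], .conj 0 [0, 35, 59, 105], .conj 2 [5, 28, 58, 93], .conj 3 [4, 35, 48, 96], .conj 4 [3, 30, 53, 71], .conj 5 [3, 35, 47, 84], .conj 3 [4, 33, 46, 80], .conj 2 [0, 41, 56, 67], .even 1 4, .conj 2 [5, 39, 43, 95], .conj 2 [0, 26, 47, 91], .conj 5 [0, 30, 43, 103], .conj 0 [7, 36, 60, 68], .conj 0 [7, 27, 60, 100], .conj 3 [7, 40, 62, 85], .conj 4 [0, 27, 45, 96], .conj 3 [8, 35, 45, 84], .conj 3 [7, 30, 60, 106], .conj 3 [7, 30, 49, 81], .conj 3 [7, 25, 50, 84], .even 1 8, .conj 3 [0, 25, 53, 104], .conj 2 [5, 22, 55, 75], .conj 0 [0, 28, 58, 69], .conj 4 [6, 27, 60, 85], .conj 5 [3, 41, 52, 81], .even 1 4, .conj 0 [3, 28, 45, 64], .even 1 2, .even 1 8, .conj 0 [7, 39, 57, 66], .conj 0 [3, 35, 56, 63], .even 1 8, .even 1 6, .even 1 6, .even 1 6, .even 1 4, .even 1 8,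 .even 1 8, .conj 0 [3, 26, 48, 86], .conj 0 [0, 22, 48, 95], .even 1 2, .conj 3 [0, 22, 49, 65], .conj 2 [5, 33, 62, 85], .conj 0 [0, 22, 44, 73], .conj 3 [0, 22, 47, 96], .even 1 8, .conj 3 [4, 24, 49, 94], .conj 5 [3, 31, 50, 72], .conj 2 [0, 22, 50, 68], .even 1 6, .conj 0 [0, 22, 50, 67], .conj 3 [0, 22, 44, 68], .even 1 4]

/-- Row5. -/
def row5 : List V := row5Part0 ++ row5Part1 ++ row5Part2 ++ row5Part3 ++ row5Part4 ++ row5Part5 ++ row5Part6 ++ row5Part7 ++ row5Part8 ++ row5Part9 ++ row5Part10 ++ row5Part11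

end CfsgLib.MathieuBlock.D22
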