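import Cfsg.Agent.MathieuBlock.Orb24x1
set_option autoImplicit false
set_option maxRecDepth 20000
set_option Elab.async false

/-!
Certificate data for the 2-block of M24 (found by a computer search, checked by the kernel).
-/

namespace CfsgLib.MathieuBlock.D24

open CfsgLib.Golay CfsgLib.MathieuTwo CfsgLib.MathieuOut

/-- Chunk. -/
def row5Part0 : List V := [.even 0 14, .even 0 14, .even 0 14, .even 0 8, .even 0 14, .conj 3 [2, 36, 66, 85, 97, 149], .conj 2 [15, 24, 53, 78, 100, 131], .conj 1 [8, 25, 51, 84, 91, 113], .even 0 14, .even 0 14, .conj 9 [4, 25, 57, 72, 99, 141], .even 0 8, .conj 0 [7, 28, 51, 87, 93, 149], .conj 2 [14, 27, 56, 78, 101, 138], .even 0 12, .even 0 12, .conj 3 [5, 40, 53, 89, 93, 137], .conj 11 [3, 32, 58, 71, 100, 124], .even 0 6, .even 0 6, .even 0 6, .even 0 6, .even 0 14, .even 0 4, .even 0 12, .conj 5 [14, 24, 61, 85, 90, 140], .even 0 10, .conj 3 [13, 40, 47, 72, 102,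 143], .conj 4 [22, 24, 68, 86, 99, 113], .even 0 2, .even 1 14, .even 0 14, .conj 8 [19, 38, 57, 73, 108, 121], .conj 3 [13, 40, 60, 81, 92, 156], .conj 1 [6, 33, 64, 86, 100, 147], .even 1 14, .even 0 12, .even 0 12, .even 0 4, .even 0 14, .even 0 4, .even 0 10, .conj 3 [2, 36, 61, 77, 101, 134], .even 0 2, .conj 4 [17, 24, 67, 83, 99, 139], .conj 6 [3, 32, 54, 76, 107, 141], .even 0 6, .even 0 12, .conj 9 [13, 40, 54, 87, 95, 133], .even 0 14, .even 0 12, .even 0 14, .even 0 6, .even 0 12, .even 0 4, .even 0 4, .even 0 12, .even 0 12, .conj 0 [8, 32, 68, 78, 95, 143], .conj 6 [19, 38, 48, 76, 96, 129], .even 0 12, .even 0 6, .conj 2 [3, 41, 50, 69, 97, 151], .even 0 10, .even 0 12, .conj 4 [16, 36, 68, 75, 101, 139], .even 0 4, .even 0 12, .conj 0 [14, 24, 63, 84, 104, 149], .even 0 2, .even 0 12, .conj 0 [10, 25, 61, 89, 109, 124], .even 0 4, .even 0 6, .conj 0 [19, 43, 47, 71, 101, 125], .conj 8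 [9, 24, 53, 81, 94, 112], .conj 9 [20, 41, 54, 81, 109, 134], .conj 0 [17, 24, 49, 79, 101, 122], .conj 8 [16, 36, 59, 83, 93, 151], .even 0 10, .even 0 6, .even 0 10, .even 0 10, .conj 6 [9, 24, 49, 77, 98, 129], .even 0 6, .even 0 14, .conj 0 [16, 43, 66, 89, 96, 123], .conj 0 [20, 41, 52, 71, 107, 124], .conj 7 [2, 36, 57, 72, 106, 146], .conj 5 [13, 40, 49, 84, 94, 110], .even 0 6, .even 0 2, .conj 9 [8, 25, 65, 69, 109, 147], .conj 9 [1, 25, 67, 72, 103, 145], .conj 0 [7, 33, 53, 71, 107, 110], .even 0 14, .even 0 14, .conj 8 [20, 41, 59, 89, 101, 152], .even 0 6, .even 0 2]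

/-- Chunk. -/
def row5Part1 : List V := [.conj 5 [8, 25, 49, 82, 104, 145], .conj 0 [9, 33, 58, 89, 92, 113], .conj 8 [4, 25, 65, 71, 94, 126], .even 0 12, .even 0 10, .even 0 12, .even 0 8, .even 0 10, .conj 0 [7, 28, 48, 84, 101, 128], .even 1 14, .conj 9 [19, 38, 57, 80, 99, 115], .even 0 12, .even 0 14, .even 0 6, .conj 5 [15, 24, 57, 79, 100, 124], .even 0 14, .even 0 2, .conj 7 [9, 24, 64, 71, 93, 125], .even 0 4, .even 0 4, .conj 2 [6, 36, 55, 72, 109, 115], .even 0 4, .conj 4 [10, 41, 67, 86, 90, 149], .conj 7 [15, 24, 49, 87, 95, 112], .even 0 4, .conj 7 [16, 36, 52, 82, 109, 127], .even 2 6, .conj 2 [16, 36, 67, 85, 107, 124], .conj 0 [4, 39, 54, 89, 97, 138], .conj 0 [16, 36, 60, 83, 96, 112], .even 0 8, .conj 2 [4, 25, 49, 79, 109, 156], .conj 1 [7, 28, 48, 87, 101, 150], .even 0 8, .even 0 8, .conj 2 [23, 24, 57, 73, 91, 116], .conj 0 [4, 25, 63, 82, 101, 157], .conj 0 [17, 34, 64, 70,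 103, 115], .conj 1 [23, 24, 62, 84, 105, 135], .even 0 8, .conj 0 [10, 41, 54, 74, 97, 152], .even 0 6, .conj 9 [8, 25, 58, 77, 100, 132], .conj 0 [12, 25, 61, 85, 101, 131], .conj 6 [15, 24, 58, 72, 102, 147], .conj 7 [10, 41, 65, 71, 109, 134], .conj 0 [21, 45, 62, 88, 91, 115], .conj 1 [17, 24, 58, 83, 102, 144], .conj 8 [18, 25, 68, 84, 95, 139], .conj 5 [15, 24, 47, 78, 100, 137], .even 2 6, .even 0 4, .conj 8 [13, 40, 50, 79, 97, 134], .even 1 14, .even 0 14, .conj 7 [15, 24, 58, 76, 101, 125], .conj 8 [17, 24, 53, 69, 101, 144], .conj 9 [16, 36, 61, 73, 97, 141], .conj 0 [17, 24, 54, 81, 97, 152], .conj 7 [10, 41, 64, 89, 104, 114], .conj 7 [20, 41, 62, 81, 90, 132], .conj 7 [4, 25, 66, 70, 96, 128], .even 0 6, .conj 6 [21, 36, 62, 71, 93, 136], .conj 2 [3, 41, 63, 82, 105, 145], .even 0 6, .conj 7 [22, 24, 50, 87, 107, 129], .even 0 14, .conj 6 [10, 41, 63, 89, 96, 148], .conj 9 [10, 41, 57,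 84, 90, 141], .even 0 8, .conj 0 [10, 41, 54, 80, 99, 157], .conj 8 [17, 24, 64, 72, 103, 154], .conj 0 [13, 40, 50, 72, 91, 149], .conj 9 [8, 25, 62, 69, 96, 143], .conj 9 [12, 25, 65, 69, 95, 129], .conj 8 [5, 40, 64, 69, 101, 155], .conj 6 [5, 40, 55, 81, 98, 113], .conj 0 [1, 33, 54, 83, 107, 154], .even 0 14, .even 0 14, .even 0 14, .conj 8 [2, 36, 48, 87, 95, 118], .conj 5 [7, 28, 60, 80, 102, 114], .conj 1 [20, 43, 63, 72, 98, 150], .even 0 6, .conj 2 [23, 24, 64, 73, 98, 143], .conj 0 [1, 33, 65, 88, 90, 124], .even 0 12, .conj 9 [1, 25, 50, 71, 95, 136], .even 1 14, .conj 8 [1, 25, 48, 85, 100, 112], .conj 2 [4, 25, 55, 82, 109, 138], .even 0 12, .conj 1 [4, 30, 54, 84, 107, 124], .even 0 6, .conj 2 [13, 40, 60, 71, 106, 112], .conj 6 [16, 36, 53, 79, 102, 150], .even 0 8, .even 0 6]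

/-- Chunk. -/
def row5Part2 : List V := [.even 0 10, .even 0 4, .even 3 14, .conj 4 [9, 24, 47, 72, 102, 121], .even 0 6, .even 0 10, .conj 2 [0, 37, 57, 70, 100, 143], .conj 2 [20, 43, 66, 79, 104, 119], .even 0 12, .conj 9 [15, 24, 59, 69, 90, 155], .even 0 12, .even 1 14, .conj 8 [15, 24, 47, 88, 99, 111], .even 0 6, .even 1 14, .even 0 6, .even 0 12, .conj 2 [22, 33, 58, 75, 109, 135], .conj 6 [17, 24, 51, 77, 99, 116], .even 0 12, .even 1 14, .conj 0 [3, 39, 57, 84, 99, 121], .even 0 12, .even 0 6, .conj 3 [6, 36, 47, 71, 94, 117], .even 0 12, .conj 5 [8, 25, 59, 80, 107, 151], .even 0 14, .even 0 6, .conj 5 [8, 25, 49, 75, 97, 122], .even 0 14, .even 1 14, .even 0 12, .even 1 14, .conj 5 [15, 24, 63, 88, 100, 143], .even 1 14, .conj 4 [11, 24, 50, 89, 106, 150], .conj 3 [9, 31, 66, 85, 104, 144], .even 0 4, .conj 8 [15, 24, 47, 88, 95, 131], .even 0 8, .conj 0 [11, 24, 63, 77, 98, 125], .conj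 2 [9, 44, 57, 76, 103, 110], .conj 2 [19, 46, 48, 76, 98, 110], .even 0 6, .even 0 4, .conj 6 [15, 24, 66, 74, 105, 111], .conj 6 [10, 41, 68, 85, 97, 119], .even 0 10, .even 0 10, .even 3 14, .even 0 14, .even 0 6, .even 0 10, .even 0 4, .even 0 12, .even 0 8, .even 0 14, .conj 0 [1, 33, 64, 88, 96, 135], .even 3 14, .conj 9 [10, 41, 56, 82, 95, 137], .conj 5 [10, 41, 58, 87, 93, 157], .conj 6 [2, 36, 48, 75, 92, 110], .even 0 2, .even 0 12, .even 0 6, .even 0 8, .even 0 12, .even 0 6, .even 0 12, .even 0 2, .even 0 10, .even 0 10, .even 0 6, .conj 0 [12, 25, 61, 83, 90, 127], .conj 6 [13, 40, 49, 81, 96, 141], .conj 5 [17, 24, 60, 71, 103, 129], .even 0 12, .conj 5 [18, 25, 54, 79, 107, 127], .even 0 4, .even 0 12, .even 4 14, .conj 3 [23, 24, 64, 72, 105, 126], .even 0 6, .even 0 10, .even 0 8, .even 0 12, .even 0 14, .conj 8 [15, 24, 50, 86, 94, 145], .even 0 2, .even 0 12, .even 0 10, .even 0 6,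 .even 0 14, .even 0 6, .even 1 14, .conj 6 [2, 36, 51, 73, 99, 157], .even 1 14, .even 0 12, .even 4 14]

/-- Chunk. -/
def row5Part3 : List V := [.conj 5 [15, 24, 65, 86, 108, 153], .even 0 6, .even 1 14, .even 0 14, .even 0 6, .even 0 14, .conj 4 [11, 24, 60, 88, 104, 127], .even 0 2, .even 0 10, .even 0 10, .even 0 8, .even 0 2, .even 0 8, .even 0 10, .even 0 4, .even 0 4, .even 0 2, .conj 0 [3, 39, 57, 85, 95, 157], .even 0 6, .even 0 12, .even 3 14, .even 0 10, .even 0 8, .even 0 14, .even 0 8, .even 0 14, .conj 9 [10, 41, 52, 81, 96, 131], .even 0 14, .conj 3 [21, 36, 54, 71, 91, 128], .conj 5 [21, 36, 52, 70, 107, 153], .conj 0 [2, 36, 47, 80, 97, 138], .conj 6 [12, 25, 60, 74, 97, 118], .conj 0 [7, 33, 65, 78, 102, 111], .conj 0 [20, 41, 56, 71, 101, 148], .even 0 14, .even 1 6, .conj 6 [21, 36, 50, 74, 106, 151], .conj 8 [11, 24, 60, 83, 92, 154], .conj 0 [8, 25, 67, 77, 94, 149], .conj 1 [8,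 25, 55, 77, 90, 145], .even 0 2, .conj 3 [11, 24, 62, 84, 107, 144], .even 0 12, .conj 3 [5, 40, 53, 70, 107, 126], .even 0 12, .conj 1 [2, 40, 47, 77, 93, 126], .even 0 10, .even 0 12, .even 0 14, .even 0 12, .conj 0 [2, 36, 64, 74, 107, 131], .even 0 2, .conj 5 [21, 36, 66, 81, 97, 137], .conj 1 [13, 40, 67, 84, 96, 154], .even 2 14, .even 0 4, .conj 0 [4, 25, 51, 88, 93, 113], .even 0 12, .even 0 14, .even 0 4, .conj 4 [20, 41, 59, 87, 102, 130], .even 0 12, .even 0 12, .conj 5 [11, 24, 49, 83, 93, 112], .even 0 14, .even 0 14, .conj 1 [3, 35, 57, 87, 95, 144], .conj 4 [21, 36, 50, 86, 93, 124], .conj 6 [19, 38, 53, 79, 91, 123], .conj 4 [9, 31, 66, 77, 101, 131], .even 0 12, .conj 6 [13, 40, 66, 73, 105, 118], .conj 3 [20, 41, 53, 86, 103, 151], .even 0 10, .even 0 14, .even 0 10, .conj 0 [17, 34, 67, 88, 99, 122], .conj 3 [11, 24, 60, 71, 107, 152], .conj 0 [13, 40, 52, 75, 100, 131], .conj 5 [2,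 36, 65, 73, 104, 150], .even 0 12, .even 2 14, .conj 2 [2, 36, 61, 73, 97, 138], .even 0 6, .conj 5 [15, 24, 52, 83, 96, 146], .even 0 2, .conj 4 [2, 36, 62, 72, 98, 129], .even 0 14, .even 0 6, .even 1 14, .even 0 14, .even 1 14, .even 0 14, .even 2 6, .conj 9 [19, 38, 49, 78, 104, 134], .even 0 4, .even 0 14, .even 0 10, .conj 9 [11, 24, 59, 80, 108, 111], .conj 2 [17, 24, 63, 89, 106, 156]]

/-- Chunk. -/
def row5Part4 : List V := [.even 0 6, .conj 8 [20, 41, 66, 75, 97, 149], .conj 0 [19, 43, 53, 79, 94, 131], .conj 6 [13, 40, 59, 78, 108, 121], .even 0 12, .conj 4 [16, 36, 56, 72, 109, 149], .even 0 14, .even 0 4, .even 0 12, .even 0 8, .conj 4 [5, 40, 51, 83, 92, 110], .even 0 6, .conj 3 [4, 25, 52, 70, 98, 125], .conj 4 [20, 41, 67, 74, 103, 129], .even 0 12, .even 0 14, .even 0 6, .conj 1 [13, 40, 52, 80, 98, 153], .even 0 14, .conj 3 [9, 40, 51, 69, 105, 152], .conj 2 [10, 41, 63, 87, 97, 123],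 .conj 5 [5, 40, 53, 74, 107, 145], .even 0 10, .even 0 12, .even 0 2, .even 0 8, .conj 2 [16, 36, 62, 75, 108, 135], .conj 3 [18, 25, 52, 76, 107, 149], .even 0 12, .even 0 14, .even 0 12, .even 0 14, .even 0 8, .even 0 8, .conj 1 [19, 38, 52, 79, 95, 129], .even 0 4, .even 0 12, .conj 2 [6, 36, 48, 79, 99, 139], .conj 4 [13, 40, 50, 82, 107, 151], .even 0 12, .even 0 10, .conj 3 [5, 40, 49, 82, 97, 148], .conj 2 [13, 40, 56, 89, 106, 155], .even 0 14, .conj 5 [15, 24, 65, 74, 98, 141], .even 0 8, .even 0 2, .even 0 12, .even 0 14, .even 0 14, .even 0 14, .even 0 12, .conj 2 [13, 40, 64, 87, 101, 110], .conj 5 [18, 25, 63, 81, 94, 115], .even 0 12, .even 0 6, .even 0 4, .even 0 14, .conj 2 [19, 38, 51, 85, 104, 115], .even 2 14, .even 0 10, .even 0 8, .even 0 4, .conj 1 [15, 24, 57, 83, 106, 137], .even 0 8, .conj 0 [22, 24, 64, 70, 106, 135], .even 0 8, .even 0 2, .even 0 14, .conj 0 [23, 30, 47, 73,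 103, 119], .conj 3 [9, 24, 55, 69, 100, 122], .even 2 14, .even 0 12, .even 0 6, .even 0 8, .even 0 2, .conj 0 [0, 43, 48, 73, 107, 124], .even 0 14, .even 0 14, .even 0 14, .even 0 12, .conj 6 [2, 36, 67, 69, 97, 130], .even 0 12, .conj 2 [1, 43, 67, 88, 109, 119], .conj 1 [22, 24, 68, 81, 91, 145], .even 0 6, .conj 2 [15, 24, 61, 83, 106, 112], .even 1 14, .even 1 6, .even 0 12, .even 0 6, .even 0 4, .conj 6 [20, 41, 59, 88, 96, 110], .even 0 6, .even 0 6, .even 0 8, .even 0 10, .conj 1 [7, 28, 61, 88, 102, 137], .conj 4 [16, 36, 47, 82, 105, 132], .even 0 8]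

/-- Chunk. -/
def row5Part5 : List V := [.conj 0 [23, 30, 65, 74, 107, 130], .conj 4 [4, 25, 59, 76, 106, 143], .conj 3 [16, 36, 52, 86, 106, 114], .even 1 6, .conj 1 [4, 25, 67, 82, 90, 154], .even 0 6, .even 0 12, .even 0 10, .even 0 2, .conj 0 [6, 36, 64, 83, 105, 110], .even 0 4, .even 1 14, .conj 3 [5, 40, 51, 76, 94, 150], .conj 1 [6, 36, 50, 85, 99, 126], .even 0 6, .even 0 6, .even 0 14, .even 0 12, .even 0 10, .even 0 14, .even 0 12, .even 0 14, .conj 0 [12, 37, 67, 84, 100, 110], .even 0 8, .even 0 10, .even 0 4, .even 1 14, .even 0 10, .even 0 6, .even 1 14, .even 0 6, .even 0 6, .even 0 8, .even 0 8, .even 0 4, .even 0 10, .conj 2 [21, 36, 64, 81, 91, 136], .even 0 8, .even 0 12, .conj 6 [12, 25, 52, 89, 101, 145], .even 1 14, .even 0 4, .conj 4 [3, 32, 47, 88, 106, 126], .even 0 4, .conj 3 [13, 40, 51, 75, 92, 152], .even 0 2, .even 0 2, .even 0 2, .even 0 2, .even 0 2, .even 0 2, .even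 0 2, .even 0 4, .even 0 12, .conj 3 [3, 32, 60, 82, 91, 122], .conj 5 [17, 24, 62, 80, 98, 125], .even 0 6, .even 0 12, .even 0 12, .even 0 6, .even 0 14, .even 0 4, .conj 1 [21, 36, 49, 84, 91, 133], .even 0 10, .even 0 12, .conj 4 [13, 40, 55, 82, 103, 123], .even 0 10, .even 0 6, .even 0 10, .even 0 12, .even 0 12, .even 1 14, .even 0 14, .even 0 4, .conj 6 [17, 24, 52, 89, 107, 137], .even 0 4, .even 0 4, .even 0 8, .even 0 4, .even 0 8, .even 0 4, .even 0 12, .even 0 8, .even 0 10, .even 0 12, .conj 1 [22, 24, 49, 86, 91, 110], .even 0 8, .even 0 4, .even 0 12, .even 0 14, .even 0 10, .conj 2 [4, 25, 64, 88, 104, 149], .conj 1 [11, 24, 67, 85, 109, 121], .conj 7 [16, 36, 57, 74, 90, 130], .even 0 4, .conj 1 [22, 45, 65, 87, 104, 140], .conj 2 [8, 39, 62, 70, 92, 124], .even 1 14, .even 0 6, .conj 1 [1, 43, 56, 83, 109, 131]]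

/-- Chunk. -/
def row5Part6 : List V := [.even 0 10, .conj 3 [9, 24, 49, 77, 99, 112], .even 0 8, .conj 1 [4, 25, 52, 79, 92, 147], .even 0 8, .even 0 12, .even 0 14, .conj 4 [4, 25, 60, 77, 105, 121], .even 0 14, .even 0 8, .conj 9 [5, 40, 55, 73, 105, 146], .even 0 6, .even 0 12, .even 0 12, .even 0 2, .even 0 2, .even 0 2, .even 0 2, .even 0 2, .even 0 2, .conj 4 [2, 36, 54, 88, 99, 114], .conj 2 [3, 32, 62, 76, 105, 113], .even 0 14, .even 0 12, .even 0 14, .conj 4 [5, 40, 66, 71, 106, 156], .even 0 14, .even 0 12, .conj 3 [20, 41, 62, 87, 95, 151], .conj 2 [22, 24, 67, 85, 96, 150], .even 0 12, .even 0 14, .even 0 10, .even 0 4, .even 2 6, .even 0 6, .conj 2 [11, 24, 56, 86, 95, 134], .even 0 12, .conj 4 [5, 40, 68, 79, 95, 110], .conj 4 [22, 24, 53, 84, 107, 136], .even 0 6, .even 0 12, .conj 4 [9, 24, 64, 71, 93, 156], .conj 8 [9, 24, 48, 88, 103, 115], .even 0 10, .even 0 14, .conj 3 [15, 24,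 58, 86, 94, 156], .even 1 14, .conj 1 [21, 36, 57, 79, 99, 110], .even 0 12, .even 2 14, .even 0 4, .conj 4 [17, 24, 53, 89, 101, 138], .even 0 6, .even 2 14, .conj 3 [17, 24, 49, 74, 96, 122], .even 0 10, .conj 1 [4, 30, 55, 86, 99, 133], .even 0 6, .even 0 6, .even 0 12, .conj 6 [11, 24, 58, 85, 96, 146], .even 0 8, .conj 0 [21, 45, 51, 79, 101, 143], .even 0 6, .conj 0 [3, 39, 49, 89, 103, 126], .conj 0 [12, 37, 56, 69, 97, 154], .even 1 14, .even 0 14, .even 0 14, .even 0 12, .even 0 2, .conj 9 [16, 36, 62, 81, 96, 133], .even 0 14, .even 0 8, .conj 7 [6, 36, 65, 75, 92, 127], .conj 5 [13, 40, 60, 69, 107, 131], .even 0 14, .conj 6 [8, 25, 68, 73, 105, 123], .conj 1 [10, 41, 50, 87, 94, 132], .conj 1 [6, 36, 63, 76, 103, 118], .even 0 14, .even 0 2, .even 0 10, .even 0 12, .even 0 10, .conj 8 [5, 40, 50, 82, 109, 129], .conj 5 [13, 40, 66, 77, 100, 153], .conj 2 [22, 32, 66, 83, 92, 125], .even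 0 4, .conj 0 [16, 36, 53, 72, 93, 143], .even 0 6, .conj 2 [22, 24, 56, 70, 96, 126], .conj 1 [3, 29, 48, 89, 106, 125], .conj 0 [23, 24, 68, 75, 93, 134], .even 0 12, .conj 4 [17, 25, 59, 87, 104, 111], .even 0 12, .even 0 12, .even 0 6]

/-- Chunk. -/
def row5Part7 : List V := [.conj 5 [8, 25, 55, 71, 93, 140], .even 0 12, .even 0 12, .even 0 14, .conj 3 [11, 24, 64, 79, 102, 119], .even 0 14, .conj 0 [20, 41, 52, 75, 94, 151], .even 1 2, .even 0 6, .even 0 4, .even 0 14, .even 0 10, .even 0 8, .even 0 12, .even 0 12, .even 0 6, .conj 3 [4, 25, 56, 69, 92, 131], .conj 1 [15, 24, 67, 80, 99, 114], .conj 0 [4, 25, 50, 70, 94, 144], .even 0 2, .even 0 10, .conj 3 [11, 36, 53, 87, 94, 147], .even 0 10, .conj 8 [8, 25, 61, 77, 90, 146], .even 0 8, .even 0 8, .conj 2 [3, 32, 62, 89, 108, 157], .even 0 10, .even 0 12, .conj 7 [13, 40, 57, 89, 108, 157], .even 2 6, .conj 8 [18, 25, 54, 77, 90, 134], .even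 0 14, .even 0 8, .conj 3 [11, 24, 54, 88, 96, 135], .even 1 6, .conj 2 [22, 24, 47, 84, 94, 143], .even 1 14, .conj 6 [13, 40, 67, 72, 100, 138], .conj 1 [17, 24, 57, 72, 105, 146], .conj 7 [10, 41, 64, 80, 92, 151], .even 0 14, .even 0 14, .conj 0 [21, 45, 68, 85, 109, 119], .conj 9 [20, 41, 56, 87, 91, 137], .even 0 2, .even 0 14, .even 0 12, .even 0 6, .even 0 6, .even 0 12, .conj 4 [14, 24, 53, 80, 108, 133], .even 0 12, .conj 2 [4, 25, 53, 74, 109, 134], .even 0 12, .conj 1 [9, 24, 63, 85, 92, 119], .conj 4 [5, 40, 48, 73, 105, 135], .conj 3 [11, 24, 57, 82, 96, 153], .even 0 14, .conj 2 [2, 36, 48, 88, 108, 157], .even 0 4, .even 0 10, .even 0 12, .conj 5 [13, 40, 66, 87, 106, 117], .even 0 12, .even 0 10, .even 0 4, .even 0 12, .conj 1 [4, 25, 52, 81, 93, 120], .even 0 12, .conj 0 [0, 43, 56, 76, 107, 122], .even 2 14, .even 0 2, .even 0 10, .even 0 2, .even 0 6, .even 0 6, .conj 6 [8, 25, 50,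 84, 102, 130], .conj 3 [10, 41, 61, 88, 97, 151], .conj 4 [16, 36, 62, 83, 98, 116], .conj 4 [16, 36, 68, 82, 91, 146], .conj 4 [10, 41, 68, 82, 99, 130], .even 0 12, .even 0 10, .even 0 12, .even 0 2, .conj 0 [17, 34, 51, 73, 95, 129], .even 0 12, .even 0 12, .conj 7 [8, 25, 47, 74, 99, 140], .conj 0 [11, 24, 48, 70, 100, 146], .conj 5 [3, 32, 49, 82, 96, 137], .conj 1 [22, 24, 63, 77, 106, 140], .conj 1 [8, 38, 50, 75, 103, 155], .conj 8 [16, 36, 52, 71, 103, 131], .conj 0 [9, 33, 62, 73, 107, 133], .conj 1 [4, 25, 52, 74, 91, 141], .even 0 6, .conj 1 [22, 24, 61, 74, 92, 156], .even 0 14]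

/-- Chunk. -/
def row5Part8 : List V := [.even 0 14, .conj 0 [3, 32, 49, 88, 108, 113], .even 0 6, .even 0 12, .conj 3 [16, 36, 49, 84, 92, 127], .even 1 14, .even 0 14, .even 0 10, .conj 1 [23, 24, 66, 82, 106, 120], .even 0 12, .even 0 6, .conj 1 [15, 24, 56, 89, 90, 121], .conj 2 [8, 38, 50, 76, 106, 134], .conj 0 [21, 45, 50, 75, 103, 111], .even 0 6, .conj 2 [23, 24, 57, 70, 90, 154], .conj 0 [6, 36, 63, 72, 98, 130], .conj 2 [3, 32, 62, 79, 92, 155], .conj 9 [22, 24, 63, 74, 95, 119], .even 0 14, .conj 5 [19, 38, 66, 81, 106, 143], .conj 4 [23, 24, 63, 71, 96, 141], .conj 2 [9, 45, 61, 85, 102, 142], .conj 6 [4, 25, 67, 74, 95, 141], .conj 1 [3, 41, 49, 89, 94, 136], .even 0 12, .conj 3 [15, 24, 63, 84, 94, 139], .conj 2 [10, 41, 61, 83, 108, 125], .conj 8 [11, 24, 57, 71, 109, 156], .even 0 6, .conj 0 [9, 33, 56, 85, 94, 123], .conj 8 [22, 24, 66, 73, 96, 124], .even 0 6, .conj 3 [22, 24, 50,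 71, 106, 155], .conj 4 [15, 24, 60, 75, 105, 150], .even 0 14, .conj 1 [15, 24, 52, 77, 97, 115], .even 0 6, .conj 5 [19, 38, 64, 86, 99, 138], .even 0 12, .even 0 12, .even 3 14, .conj 0 [6, 36, 47, 82, 92, 117], .even 0 14, .conj 9 [2, 36, 67, 70, 92, 142], .conj 5 [17, 24, 47, 71, 99, 129], .conj 7 [11, 24, 52, 83, 107, 128], .even 0 8, .even 0 14, .conj 4 [18, 25, 56, 73, 96, 120], .even 0 6, .even 0 12, .conj 5 [12, 25, 67, 83, 100, 123], .conj 1 [3, 32, 47, 86, 101, 153], .conj 1 [10, 41, 58, 86, 97, 154], .conj 1 [6, 33, 64, 77, 106, 134], .conj 0 [1, 33, 51, 87, 105, 147], .even 1 14, .even 0 12, .even 0 12, .even 1 6, .conj 2 [11, 24, 68, 70, 93, 132], .conj 3 [2, 36, 59, 70, 91, 133], .even 0 6, .even 0 14, .even 0 10, .even 0 12, .even 0 14, .even 0 10, .conj 1 [6, 36, 57, 69, 93, 135], .even 0 14, .even 0 14, .conj 1 [17, 24, 67, 83, 94, 152], .even 0 12, .even 0 2, .conj 4 [12, 25, 56,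 82, 109, 132], .even 0 10, .even 0 12, .even 0 6, .even 0 14, .even 0 12, .even 0 2, .even 0 14, .even 0 14, .even 0 12, .even 1 14, .conj 1 [14, 27, 67, 78, 107, 139], .conj 1 [13, 40, 66, 71, 106, 111], .even 0 4, .even 0 2, .conj 6 [15, 24, 64, 84, 96, 135], .conj 6 [18, 25, 49, 76, 92, 147], .even 0 12, .even 1 14, .conj 8 [6, 36, 55, 72, 90, 153], .conj 9 [2, 36, 61, 74, 93, 112], .even 1 14, .even 0 12, .conj 6 [7, 28, 65, 72, 96, 126], .even 1 14]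

/-- Chunk. -/
def row5Part9 : List V := [.conj 2 [11, 26, 59, 73, 95, 157], .even 0 6, .conj 8 [19, 38, 67, 77, 107, 123], .even 0 6, .conj 0 [4, 39, 62, 82, 91, 150], .even 1 6, .conj 8 [12, 25, 58, 87, 93, 149], .even 0 4, .conj 7 [10, 41, 48, 71, 108, 154], .conj 7 [14, 24, 64, 81, 109, 128], .conj 0 [14, 24, 51, 70, 108, 116], .even 0 14, .conj 9 [15, 24, 56, 89, 100, 136], .even 0 6, .even 0 14, .even 1 2, .conj 0 [19, 38, 53, 89, 96, 142], .conj 7 [20, 41, 51, 78, 107, 122], .conj 1 [11, 24, 55, 75, 106, 116], .conj 2 [21, 36, 51, 80, 101, 142], .even 0 14, .even 0 8, .even 0 8, .even 1 6, .conj 2 [16, 34, 58, 77, 102, 113], .even 0 14, .conj 0 [11, 28, 47, 88, 99, 126], .conj 0 [7, 33, 47, 79, 96, 129], .conj 5 [2, 36, 66, 89, 91, 126], .conj 6 [7, 28, 65, 71, 92, 149], .conj 7 [1, 25, 55, 85, 97, 122], .even 0 4, .even 0 14, .even 0 14, .even 0 14, .even 0 6, .even 0 2, .even 0 8, .even 0 6,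 .even 1 6, .even 0 4, .even 0 14, .even 0 4, .even 0 14, .conj 0 [13, 27, 63, 88, 94, 123], .conj 6 [6, 36, 47, 72, 109, 135], .even 0 2, .even 0 6, .conj 2 [8, 25, 56, 69, 97, 134], .conj 2 [5, 40, 60, 82, 92, 115], .even 0 8, .even 1 14, .conj 0 [0, 43, 66, 86, 100, 114], .even 0 2, .conj 0 [11, 24, 54, 86, 97, 121], .conj 5 [4, 25, 60, 89, 105, 130], .conj 7 [22, 24, 48, 69, 99, 142], .conj 8 [13, 40, 67, 85, 97, 153], .conj 1 [6, 36, 50, 76, 98, 147], .even 0 6, .conj 0 [9, 24, 53, 75, 108, 138], .even 0 14, .even 0 8, .conj 0 [20, 41, 56, 89, 99, 114], .even 0 2, .conj 1 [2, 36, 53, 70, 99, 143], .even 0 6, .even 0 4, .conj 10 [19, 38, 59, 81, 99, 154], .conj 9 [20, 41, 51, 73, 104, 154], .even 0 8, .conj 0 [13, 40, 66, 86, 95, 122], .even 1 14, .conj 1 [5, 40, 50, 84, 107, 120], .conj 5 [4, 25, 67, 80, 93, 117], .conj 6 [12, 25, 60, 72, 94, 129], .even 0 6, .even 0 12, .conj 4 [15, 24, 68, 83,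 100, 155], .conj 3 [22, 24, 58, 79, 92, 119], .conj 0 [8, 32, 55, 80, 102, 123], .even 0 12, .even 0 6, .conj 2 [13, 40, 59, 87, 108, 156], .even 0 12, .conj 2 [16, 34, 65, 69, 96, 149], .even 0 10, .even 0 14, .conj 3 [12, 25, 61, 83, 95, 152], .conj 0 [7, 28, 49, 83, 95, 153], .conj 6 [18, 25, 66, 83, 103, 116], .conj 1 [6, 36, 48, 82, 102, 142], .conj 1 [12, 25, 66, 77, 97, 113], .even 0 8, .even 0 12, .even 0 8, .even 0 10, .even 0 8, .even 0 14, .even 0 10]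

/-- Chunk. -/
def row5Part10 : List V := [.even 0 14, .even 0 6, .even 0 12, .even 0 4, .even 0 6, .even 0 14, .even 0 4, .even 0 14, .conj 6 [13, 40, 47, 88, 92, 148], .conj 0 [6, 36, 65, 80, 109, 144], .conj 1 [12, 28, 47, 86, 99, 115], .even 0 14, .conj 9 [17, 24, 61, 76, 105, 155], .conj 1 [23, 24, 62, 73, 94, 128], .conj 5 [13, 40, 66, 75, 107, 152], .conj 5 [20, 41, 59, 71, 105, 133], .even 0 14, .conj 1 [19, 38, 67, 75, 102, 153], .conj 3 [16, 36, 48, 75, 95, 119], .even 0 12, .even 0 14, .even 0 6, .even 0 2, .conj 4 [11, 24, 61, 73, 93, 150], .conj 7 [2, 36, 48, 70, 96, 134], .conj 2 [16, 25, 51, 87, 109, 124], .conj 0 [2, 41, 49, 77, 99, 117], .conj 5 [2, 36, 58, 78, 99, 125], .even 2 14, .conj 8 [1, 25, 58, 74, 105, 130], .even 0 8, .conj 0 [15, 34, 60, 71, 97, 134], .even 0 12, .even 0 10, .conj 9 [1, 25, 61, 78, 95, 156], .conj 3 [10, 41, 60, 72, 98, 153], .even 0 8, .conj 0 [8, 25, 48,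 87, 106, 132], .even 0 14, .conj 1 [22, 45, 47, 69, 99, 143], .conj 5 [19, 38, 58, 85, 109, 119], .even 0 14, .even 0 14, .even 1 6, .even 0 14, .even 0 4, .conj 2 [19, 38, 54, 74, 105, 157], .even 0 6, .conj 5 [13, 40, 47, 80, 95, 154], .even 0 10, .even 0 4, .conj 6 [19, 38, 58, 70, 96, 146], .conj 5 [5, 40, 59, 75, 90, 119], .even 2 2, .conj 1 [3, 32, 52, 71, 94, 123], .even 0 14, .even 0 8, .even 0 12, .conj 0 [16, 36, 53, 72, 108, 128], .conj 2 [6, 36, 64, 87, 97, 149], .conj 0 [8, 25, 50, 75, 95, 119], .conj 6 [18, 25, 58, 86, 93, 153], .even 0 8, .even 0 12, .even 0 6, .conj 0 [10, 25, 55, 76, 109, 133], .even 0 2, .even 0 6, .even 0 14, .even 0 10, .even 0 12, .even 0 6, .conj 1 [17, 24, 48, 82, 106, 113], .conj 7 [6, 36, 58, 69, 107, 113], .conj 5 [15, 24, 55, 88, 91, 123], .conj 4 [11, 24, 57, 69, 106, 128], .even 0 14, .even 0 4, .conj 0 [4, 39, 59, 88, 103, 110], .conj 6 [18, 25, 59, 86,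 98, 131], .even 0 8, .conj 0 [2, 41, 49, 70, 102, 142], .even 0 14, .even 0 10, .conj 9 [9, 24, 59, 82, 100, 120], .conj 0 [22, 38, 68, 83, 99, 110], .conj 0 [22, 24, 65, 70, 98, 110], .conj 8 [5, 40, 48, 78, 103, 138], .even 0 12, .conj 0 [19, 38, 60, 87, 107, 149], .conj 0 [23, 30, 48, 77, 94, 139], .conj 0 [17, 24, 68, 89, 103, 154], .conj 1 [6, 36, 66, 74, 103, 126], .conj 4 [14, 24, 57, 81, 102, 113], .even 0 12, .even 0 14, .even 0 6, .even 1 14, .conj 1 [4, 25, 59, 74, 97, 147], .even 0 14]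

/-- Chunk. -/
def row5Part11 : List V := [.conj 3 [14, 24, 56, 74, 106, 141], .even 0 6, .even 0 14, .conj 4 [18, 25, 66, 78, 97, 145], .even 0 2, .conj 5 [6, 36, 50, 70, 100, 139], .conj 1 [13, 40, 52, 83, 109, 136], .even 0 6, .even 1 14, .even 0 10, .conj 3 [13, 40, 52, 72, 109, 156], .even 0 12, .conj 2 [23, 24, 51, 86, 100, 128], .conj 6 [17, 24, 55, 81, 95, 136], .conj 4 [6, 36, 61, 82, 102, 156], .even 0 4, .conj 7 [21, 36, 67, 88, 105, 128], .conj 6 [7, 28, 57, 79, 102, 135], .even 0 12, .conj 1 [10, 26, 61, 86, 107, 122], .conj 5 [3, 32, 51, 79, 91, 134], .conj 5 [18, 25, 51, 84, 99, 141], .conj 8 [10, 41, 67, 89, 97, 124], .even 0 12, .even 0 12, .conj 1 [16, 36, 58, 83, 91, 122], .conj 1 [16, 34, 58, 82, 103, 132], .even 1 14, .conj 0 [3, 39, 56, 81, 90, 139], .conj 3 [23, 24, 51, 83, 97, 120], .even 0 14, .even 0 6, .conj 1 [20, 30, 48, 88, 90, 118], .conj 9 [6, 36, 53, 74, 96, 152], .conj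 2 [17, 24, 60, 71, 94, 124], .even 0 12, .conj 1 [13, 40, 54, 76, 97, 122], .even 0 12, .conj 2 [9, 24, 48, 78, 96, 125], .conj 4 [2, 36, 65, 81, 93, 144], .conj 2 [19, 38, 48, 86, 109, 126], .conj 8 [1, 25, 54, 81, 104, 123], .even 1 14, .conj 5 [6, 36, 64, 81, 93, 115], .conj 0 [21, 36, 49, 73, 102, 143], .even 0 2, .conj 4 [13, 40, 67, 86, 90, 129], .even 0 4, .conj 4 [17, 24, 56, 87, 95, 114], .conj 5 [16, 36, 56, 85, 105, 148], .even 0 6, .even 0 14, .even 0 12, .even 0 12, .even 2 14, .even 0 14, .conj 2 [6, 36, 66, 69, 97, 149], .conj 5 [2, 36, 61, 79, 97, 110], .even 0 12, .conj 3 [17, 24, 54, 77, 97, 125], .even 0 12, .even 0 14, .conj 1 [6, 36, 60, 89, 108, 137], .conj 9 [5, 40, 60, 73, 91, 119], .even 0 14, .conj 3 [10, 41, 52, 87, 90, 117], .even 0 2, .even 0 12, .conj 2 [13, 40, 54, 71, 98, 133], .conj 5 [11, 24, 51, 87, 109, 134], .conj 1 [19, 38, 48, 78, 106, 147], .conj 0 [10, 25, 60,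 78, 100, 147], .even 0 6, .even 0 8, .even 2 6, .conj 0 [22, 38, 63, 77, 105, 155], .even 0 10, .conj 4 [5, 40, 62, 88, 101, 111], .even 0 12, .even 0 8, .conj 0 [11, 28, 65, 78, 96, 116], .even 0 14, .conj 0 [16, 43, 64, 81, 96, 141], .conj 9 [8, 25, 58, 74, 107, 110], .even 0 10, .even 0 14, .conj 7 [4, 25, 66, 84, 101, 111], .even 0 14, .conj 3 [17, 24, 62, 86, 103, 112], .even 0 6, .conj 6 [2, 36, 54, 77, 94, 155], .conj 1 [9, 45, 47, 83, 99, 136], .even 0 4, .conj 4 [1, 24, 47, 79, 95, 135], .even 0 12, .even 0 10, .even 0 12, .even 0 6, .conj 1 [19, 38, 67, 74, 108, 142], .even 0 4]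

/-- Chunk. -/
def row5Part12 : List V := [.even 0 8, .even 0 12, .even 0 12, .conj 6 [6, 36, 57, 84, 90, 134], .even 0 6, .conj 3 [11, 36, 58, 87, 95, 138], .even 0 12, .even 0 10, .conj 2 [6, 36, 47, 74, 100, 121], .conj 6 [8, 25, 54, 81, 91, 122], .conj 0 [9, 24, 51, 69, 103, 137], .conj 0 [3, 32, 62, 70, 105, 112], .even 0 12, .even 0 2, .conj 5 [6, 36, 62, 83, 95, 126], .even 0 14, .conj 8 [1, 25, 54, 84, 99, 131], .conj 1 [2, 36, 64, 85, 107, 129], .conj 4 [8, 25, 57, 80, 103, 126], .even 0 12, .conj 0 [3, 39, 49, 82, 98, 146], .even 0 2, .conj 1 [16, 36, 64, 85, 99, 143], .even 0 12, .conj 3 [18, 25, 56, 87, 99, 145], .conj 0 [7, 28, 62, 74, 97, 119], .even 0 12, .even 0 12, .conj 5 [2, 36, 68, 76, 95, 114], .conj 7 [13, 40, 64, 84, 100, 119], .even 0 10, .even 0 14, .conj 6 [8, 25, 61, 76, 95, 131], .conj 4 [11, 24, 67, 74, 108, 120], .even 0 14, .conj 6 [14, 24, 62, 73, 98, 115], .conj 7 [22,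 24, 63, 89, 98, 115], .even 0 14, .conj 0 [17, 34, 56, 76, 95, 115], .conj 0 [0, 43, 64, 87, 96, 119], .even 0 2, .conj 2 [2, 36, 61, 79, 105, 116], .conj 6 [21, 36, 47, 88, 92, 120], .even 0 8, .conj 1 [16, 36, 55, 71, 106, 156], .even 0 12, .conj 0 [12, 25, 52, 86, 109, 113], .conj 6 [6, 36, 66, 70, 96, 121], .even 0 2, .conj 3 [16, 36, 51, 78, 107, 126], .even 0 6, .even 0 10, .even 0 8, .even 0 14, .even 0 4, .conj 6 [13, 40, 68, 80, 99, 144], .even 0 2, .even 0 12, .even 0 6, .even 0 12, .conj 2 [11, 37, 55, 78, 109, 136], .even 0 14, .even 0 6, .conj 4 [20, 41, 63, 76, 100, 138], .conj 2 [6, 36, 51, 73, 91, 120], .conj 5 [21, 36, 51, 73, 91, 150], .conj 0 [16, 43, 48, 75, 96, 144], .even 0 6, .conj 3 [21, 36, 56, 80, 92, 138], .conj 2 [20, 41, 63, 77, 97, 143], .even 0 4, .even 0 12, .conj 0 [17, 34, 64, 70, 91, 147], .conj 5 [6, 36, 67, 84, 108, 128], .even 1 14, .conj 4 [21, 36, 57, 88, 108,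 122], .even 0 12, .even 0 6, .even 0 12, .conj 4 [10, 41, 47, 75, 109, 149], .even 1 2, .even 0 14, .conj 6 [5, 40, 52, 78, 99, 135], .even 0 4, .even 0 6, .conj 6 [15, 24, 64, 87, 98, 115], .conj 9 [5, 40, 62, 83, 90, 133], .even 0 8, .conj 2 [19, 38, 64, 75, 107, 155], .even 0 4, .conj 0 [23, 30, 57, 86, 96, 132], .even 0 4, .conj 0 [4, 25, 58, 83, 96, 129], .conj 0 [4, 39, 50, 71, 96, 152], .conj 0 [2, 36, 52, 79, 99, 122], .conj 1 [19, 46, 67, 80, 99, 110], .conj 9 [9, 24, 55, 78, 90, 129], .even 1 14, .even 0 4, .even 0 6]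

/-- Chunk. -/
def row5Part13 : List V := [.conj 2 [9, 24, 61, 79, 103, 122], .even 0 6, .even 0 8, .even 0 2, .conj 2 [12, 25, 67, 89, 90, 114], .conj 0 [8, 25, 62, 71, 100, 120], .even 0 2, .even 0 8, .even 0 4, .conj 2 [12, 28, 49, 74, 107, 126], .conj 9 [15, 24, 50, 71, 106, 140], .even 0 4, .conj 0 [11, 24, 50, 87, 96, 149], .conj 2 [4, 25, 63, 84, 108, 125], .even 0 6, .even 0 8, .conj 8 [8, 25, 65, 82, 98, 112], .even 1 14, .even 0 14, .conj 5 [13, 40, 57, 73, 97, 140], .even 0 14, .even 0 6, .conj 2 [5, 40, 50, 85, 103, 154], .conj 0 [8, 25, 60, 70, 94, 125], .conj 0 [19, 38, 62, 87, 109, 155], .conj 8 [15, 24, 65, 72, 92, 110], .even 0 2, .even 0 14, .conj 5 [4, 25, 50, 76, 92, 151], .even 0 8, .even 1 14, .conj 9 [9, 24, 56, 70, 91, 114], .even 0 2, .conj 2 [3, 32, 51, 70, 98, 157], .conj 7 [6, 36, 50, 85, 98, 139], .conj 6 [12, 25, 52, 89, 94, 155], .conj 0 [20, 41, 59, 84, 105, 141], .even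 0 8, .conj 5 [4, 25, 53, 89, 91, 115], .even 0 8, .even 0 6, .conj 8 [4, 25, 64, 80, 94, 119], .even 0 6, .even 0 8, .even 0 10, .conj 6 [17, 24, 59, 77, 105, 155], .even 0 14, .conj 8 [11, 24, 65, 81, 96, 136], .even 0 12, .conj 0 [10, 41, 53, 76, 92, 140], .even 0 12, .conj 2 [19, 46, 62, 88, 96, 142], .even 0 8, .conj 6 [19, 38, 55, 80, 98, 157], .even 0 8, .even 0 4, .conj 0 [17, 34, 64, 70, 102, 125], .conj 9 [15, 24, 64, 76, 104, 129], .even 0 4, .conj 7 [16, 36, 59, 85, 104, 145], .conj 7 [14, 24, 54, 75, 102, 128], .conj 7 [15, 24, 59, 87, 96, 127], .conj 3 [20, 41, 49, 74, 98, 134], .conj 8 [11, 24, 63, 84, 94, 115], .conj 5 [15, 24, 62, 86, 108, 138], .even 0 4, .even 0 4, .even 0 12, .even 0 8, .conj 7 [2, 36, 47, 79, 109, 140], .conj 0 [2, 36, 47, 88, 93, 149], .even 1 6, .conj 7 [22, 24, 49, 89, 103, 141], .conj 6 [8, 25, 53, 70, 93, 126], .even 0 6, .even 1 6, .even 0 4, .conj 0 [10, 41,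 50, 88, 105, 113], .even 0 6, .conj 9 [1, 25, 66, 70, 92, 129], .even 0 4, .conj 7 [15, 24, 66, 82, 92, 138], .conj 6 [17, 24, 51, 83, 95, 128], .conj 6 [19, 38, 64, 75, 108, 135], .conj 0 [2, 36, 64, 72, 98, 155], .conj 0 [7, 33, 49, 86, 102, 148], .even 0 14, .conj 7 [1, 25, 56, 76, 109, 128], .conj 0 [19, 38, 49, 71, 102, 141], .conj 0 [14, 24, 48, 74, 101, 132], .conj 2 [23, 24, 52, 77, 99, 148], .conj 0 [4, 25, 56, 78, 98, 132], .conj 2 [6, 36, 67, 70, 97, 154], .even 0 14, .conj 5 [9, 24, 67, 77, 102, 136], .conj 0 [11, 24, 62, 87, 94, 116], .even 0 8, .even 0 6, .even 0 10, .even 1 2]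

/-- Chunk. -/
def row5Part14 : List V := [.conj 7 [13, 40, 52, 71, 99, 117], .conj 0 [9, 33, 50, 70, 102, 133], .even 0 4, .conj 5 [5, 40, 59, 77, 97, 113], .even 0 14, .even 0 6, .conj 0 [9, 33, 49, 71, 93, 149], .even 0 4, .even 0 14, .conj 1 [11, 24, 63, 89, 91, 132], .even 0 2, .conj 2 [11, 26, 63, 89, 102, 136], .even 0 12, .conj 3 [15, 24, 60, 88, 96, 153], .even 0 14, .even 0 2, .conj 1 [22, 24, 49, 86, 105, 152], .even 0 12, .conj 3 [6, 36, 66, 73, 98, 131], .conj 5 [18, 25, 57, 70, 109, 125], .conj 0 [23, 30, 47, 78, 91, 121], .even 0 14, .even 0 4, .even 0 10, .even 0 8, .even 0 2, .even 0 12, .even 0 2, .conj 3 [9, 24, 48, 79, 92, 157], .even 1 14, .even 0 12, .even 0 14, .even 0 6, .even 0 8, .conj 7 [11, 37, 55, 79, 103, 151], .conj 7 [15, 38, 67, 80, 100, 128], .even 1 8, .conj 9 [1, 24, 47, 80, 96, 135], .conj 0 [19, 31, 57, 84, 107, 136], .even 1 6, .conj 1 [5, 36, 52, 88, 101, 127],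 .conj 7 [4, 33, 66, 87, 99, 138], .conj 0 [21, 38, 47, 85, 101, 126], .conj 0 [21, 33, 57, 85, 95, 144], .conj 1 [4, 33, 66, 77, 105, 115], .conj 0 [1, 28, 66, 76, 95, 144], .even 1 2, .conj 1 [5, 36, 48, 83, 97, 115], .even 1 14, .even 1 8, .even 1 8, .even 1 14, .conj 0 [14, 45, 49, 73, 97, 121], .conj 0 [4, 29, 54, 87, 100, 117], .conj 9 [12, 43, 61, 77, 103, 140], .even 1 14, .even 1 14, .even 1 14, .even 1 8, .conj 1 [3, 27, 59, 79, 103, 150], .conj 5 [19, 24, 60, 78, 91, 150], .conj 0 [17, 38, 58, 85, 90, 138], .conj 8 [18, 36, 56, 81, 98, 141], .conj 9 [5, 37, 50, 84, 94, 127], .conj 0 [15, 43, 68, 77, 108, 131], .conj 8 [11, 40, 51, 80, 96, 118], .conj 8 [5, 24, 62, 70, 102, 151], .conj 5 [2, 24, 58, 80, 93, 123], .even 1 14, .conj 0 [9, 44, 50, 74, 99, 124], .even 1 2, .conj 0 [16, 46, 55, 87, 93, 136], .conj 0 [4, 33, 66, 77, 99, 149], .conj 0 [2, 34, 58, 77, 99, 150], .conj 6 [12, 36, 56,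 70, 100, 111], .conj 7 [8, 24, 47, 88, 101, 130], .conj 0 [7, 34, 49, 81, 90, 140], .conj 5 [16, 32, 63, 75, 100, 127], .conj 5 [20, 24, 63, 84, 103, 149], .conj 9 [4, 43, 61, 84, 106, 132], .even 1 8, .conj 9 [22, 28, 67, 86, 107, 129], .even 1 4, .conj 8 [4, 24, 47, 81, 104, 120], .conj 8 [17, 25, 59, 89, 90, 111], .conj 0 [17, 24, 57, 70, 93, 123], .conj 1 [12, 25, 64, 77, 99, 113], .conj 0 [16, 36, 59, 87, 102, 142], .even 0 14, .conj 3 [9, 24, 51, 70, 107, 119], .conj 4 [6, 36, 50, 83, 95, 154], .even 0 6, .conj 3 [18, 36, 58, 75, 100, 146], .even 3 6, .conj 0 [8, 32, 49, 76, 97, 155], .conj 6 [15, 24, 52, 77, 99, 144], .even 0 6, .even 0 14, .even 0 12, .even 2 14]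

/-- Chunk. -/
def row5Part15 : List V := [.even 0 12, .conj 1 [20, 41, 52, 75, 94, 135], .conj 5 [6, 36, 54, 87, 102, 115], .conj 4 [8, 25, 66, 82, 104, 116], .conj 3 [22, 24, 55, 84, 91, 153], .conj 8 [20, 41, 47, 83, 95, 115], .even 0 8, .even 0 8, .conj 0 [23, 24, 61, 82, 105, 123], .even 0 6, .even 0 12, .even 0 10, .even 0 14, .conj 0 [8, 25, 53, 84, 105, 115], .conj 1 [2, 33, 58, 69, 90, 110], .even 0 14, .even 0 14, .even 0 6, .conj 0 [17, 24, 57, 80, 100, 123], .even 0 12, .even 4 2, .conj 8 [15, 24, 62, 69, 90, 128], .conj 2 [3, 35, 60, 72, 95, 131], .even 0 10, .even 0 6, .conj 5 [2, 36, 49, 87, 107, 127], .even 0 12, .conj 4 [9, 24, 65, 76, 91, 119], .conj 0 [15, 34, 49, 72, 91, 150], .even 0 12, .conj 4 [7, 28, 53, 72, 108, 121], .even 0 10, .even 0 4, .conj 0 [22, 38, 47, 89, 100, 122], .even 0 12, .conj 9 [10, 41, 68, 74, 95, 157], .even 1 14, .even 0 12, .conj 9 [18, 25, 53, 73, 102,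 144], .conj 0 [1, 33, 64, 81, 104, 134], .even 0 12, .conj 4 [16, 36, 66, 84, 99, 151], .conj 9 [6, 36, 59, 79, 96, 144], .even 0 12, .conj 4 [3, 32, 48, 71, 93, 129], .even 0 6, .conj 0 [13, 40, 54, 77, 98, 155], .even 0 6, .even 0 6, .even 0 6, .even 1 2, .even 0 12, .conj 0 [13, 27, 68, 83, 108, 155], .even 0 12, .even 0 12, .conj 1 [8, 28, 49, 86, 93, 134], .conj 10 [12, 25, 59, 80, 98, 120], .even 1 6, .even 1 6, .conj 1 [22, 33, 58, 79, 107, 127], .even 1 2, .even 0 6, .conj 5 [2, 36, 52, 69, 95, 151], .conj 0 [15, 34, 65, 79, 109, 148], .even 0 12, .even 0 4, .even 0 4, .even 0 4, .even 0 4, .even 0 4, .even 0 4, .even 0 8, .conj 6 [20, 41, 68, 74, 92, 141], .conj 5 [9, 24, 51, 75, 96, 130], .even 0 14, .even 0 10, .conj 1 [14, 27, 51, 83, 106, 111], .even 0 14, .conj 8 [1, 25, 67, 76, 99, 149], .conj 6 [14, 24, 64, 83, 104, 154], .even 1 14, .even 0 4, .conj 6 [13, 40, 63, 88, 104, 131], .conj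 3 [20, 41, 63, 81, 108, 127], .conj 2 [2, 36, 50, 86, 90, 116], .even 2 14, .conj 9 [10, 41, 52, 81, 100, 128], .even 0 12, .even 2 14, .conj 8 [11, 24, 51, 73, 106, 128], .even 0 6, .conj 2 [22, 24, 49, 71, 101, 143], .even 1 14, .even 0 14, .even 1 2, .even 0 14, .conj 6 [10, 41, 57, 71, 108, 112], .even 0 2, .even 0 6, .conj 1 [2, 36, 55, 71, 102, 116]]

/-- Chunk. -/
def row5Part16 : List V := [.even 0 12, .even 2 14, .even 0 10, .even 0 14, .conj 1 [4, 25, 66, 77, 96, 134], .even 2 2, .even 0 12, .even 0 6, .even 0 2, .even 0 14, .conj 1 [15, 24, 50, 80, 98, 157], .even 0 12, .even 0 12, .conj 8 [4, 25, 54, 88, 94, 119], .even 0 2, .conj 4 [11, 24, 53, 88, 92, 117], .even 0 14, .even 0 14, .conj 0 [8, 25, 63, 80, 99, 121], .even 0 14, .conj 4 [10, 41, 68, 89, 95, 117], .even 0 14, .even 0 12, .conj 2 [3, 32, 64, 88, 96, 146], .even 1 14, .conj 4 [3, 32, 54, 80, 105, 157], .conj 0 [7, 33, 66, 78,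 104, 141], .conj 3 [3, 32, 65, 74, 95, 125], .conj 5 [11, 24, 62, 72, 109, 128], .even 0 10, .even 0 6, .even 0 4, .even 0 6, .even 0 6, .conj 4 [11, 24, 57, 87, 97, 136], .even 0 12, .even 0 12, .conj 1 [17, 24, 52, 86, 92, 157], .conj 3 [7, 24, 50, 85, 105, 123], .even 0 14, .even 0 10, .conj 2 [23, 24, 65, 78, 95, 112], .even 0 8, .even 1 2, .even 0 14, .even 0 6, .even 0 12, .conj 5 [6, 36, 60, 88, 104, 136], .conj 0 [13, 27, 65, 77, 103, 111], .conj 0 [10, 41, 64, 82, 103, 147], .even 0 6, .even 0 2, .conj 7 [20, 41, 55, 84, 100, 152], .even 0 10, .even 0 12, .even 0 2, .even 0 14, .even 0 2, .conj 2 [6, 33, 64, 69, 107, 111], .conj 4 [20, 41, 60, 70, 108, 144], .even 0 12, .even 0 10, .even 0 2, .even 0 6, .even 0 12, .even 0 12, .even 0 12, .even 0 6, .even 0 6, .even 0 12, .even 0 10, .even 0 10, .conj 1 [20, 41, 58, 73, 107, 157], .conj 9 [22, 24, 63, 81, 107, 114], .even 0 2, .even 0 10, .even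 0 12, .even 0 12, .even 0 8, .even 0 14, .conj 4 [17, 24, 57, 72, 94, 145], .even 0 14, .conj 4 [5, 40, 51, 78, 107, 150], .conj 2 [8, 39, 54, 87, 104, 114], .conj 2 [4, 25, 55, 89, 91, 129], .even 0 6, .conj 2 [20, 41, 67, 79, 90, 111], .conj 2 [10, 41, 58, 79, 93, 112], .even 0 12, .even 0 6, .even 0 8, .even 1 14, .conj 0 [21, 45, 61, 80, 94, 110], .even 1 14, .conj 0 [13, 40, 62, 84, 93, 147], .conj 0 [11, 24, 62, 88, 96, 120], .conj 5 [10, 41, 67, 81, 95, 120], .conj 4 [16, 36, 51, 69, 91, 127], .even 1 14, .conj 3 [16, 36, 51, 88, 108, 125]]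

/-- Chunk. -/
def row5Part17 : List V := [.even 0 12, .conj 3 [16, 36, 61, 80, 107, 149], .even 1 14, .conj 4 [12, 25, 61, 78, 90, 133], .even 0 14, .even 0 10, .conj 0 [13, 40, 53, 75, 97, 129], .even 1 14, .even 0 14, .even 1 14, .conj 0 [21, 45, 48, 78, 109, 135], .even 0 6, .conj 11 [8, 25, 66, 76, 107, 136], .conj 4 [16, 36, 61, 75, 96, 114], .even 0 6, .even 0 6, .even 0 10, .conj 6 [10, 41, 67, 83, 101, 134], .even 0 8, .conj 9 [9, 24, 51, 71, 97, 156], .conj 8 [9, 24, 51, 87, 99, 139], .even 0 12, .even 0 6, .even 0 6, .conj 7 [14, 24, 62, 74, 99, 126], .even 0 12, .even 0 12, .conj 6 [2, 36, 65, 89, 98, 151], .even 0 14, .even 0 2, .even 0 12, .even 0 4, .conj 1 [3, 41, 50, 80, 94, 148], .even 0 10, .conj 6 [8, 25, 48, 82, 91, 155], .even 0 6, .even 0 14, .even 0 6, .even 0 14, .even 0 2, .even 0 14, .conj 4 [4, 25, 64, 79, 105, 139], .even 0 6, .even 0 14, .even 0 2, .even 0 10, .conj 4 [16,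 36, 48, 69, 101, 113], .conj 4 [21, 36, 59, 79, 91, 123], .even 0 2, .conj 9 [19, 38, 52, 82, 106, 115], .even 0 14, .even 0 10, .even 0 14, .even 0 14, .conj 9 [22, 24, 68, 76, 96, 148], .even 0 14, .conj 2 [23, 24, 62, 84, 102, 138], .even 1 14, .even 0 12, .even 0 2, .even 0 10, .conj 1 [21, 36, 64, 80, 99, 127], .even 0 14, .conj 0 [8, 25, 61, 79, 93, 150], .conj 9 [16, 36, 59, 83, 99, 127], .conj 8 [5, 40, 64, 85, 96, 122], .even 1 14, .conj 5 [5, 40, 54, 75, 91, 155], .even 0 8, .even 0 4, .even 0 10, .even 0 14, .conj 2 [2, 40, 65, 71, 97, 137], .even 0 12, .conj 0 [9, 33, 56, 89, 104, 132], .even 0 12, .even 0 2, .even 0 8, .even 0 10, .conj 0 [8, 25, 62, 72, 92, 155], .conj 0 [3, 39, 65, 80, 100, 117], .conj 6 [3, 32, 50, 76, 100, 140], .conj 1 [20, 41, 59, 69, 100, 139], .even 0 6, .even 0 4, .even 0 6, .conj 1 [13, 40, 54, 84, 100, 128], .even 0 12, .conj 1 [19, 38, 48, 87, 98, 113], .conj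 3 [9, 31, 66, 70, 96, 111], .even 0 14, .even 0 10, .conj 3 [18, 25, 56, 84, 93, 134], .even 0 12, .conj 1 [0, 37, 67, 89, 102, 121], .conj 2 [9, 24, 66, 74, 100, 145], .conj 0 [13, 40, 66, 88, 101, 114], .conj 2 [20, 41, 64, 74, 108, 121], .conj 3 [8, 25, 60, 74, 103, 156], .conj 3 [10, 41, 53, 70, 99, 133]]

/-- Chunk. -/
def row5Part18 : List V := [.even 0 12, .conj 1 [23, 24, 66, 75, 101, 126], .conj 6 [4, 25, 67, 69, 101, 110], .conj 0 [22, 38, 49, 74, 94, 131], .conj 5 [14, 24, 58, 81, 93, 138], .conj 4 [20, 41, 58, 71, 97, 128], .conj 3 [13, 40, 50, 72, 96, 149], .even 0 12, .conj 0 [11, 24, 48, 88, 107, 147], .even 1 2, .even 0 10, .even 0 4, .even 0 6, .conj 0 [14, 24, 53, 76, 107, 140], .even 0 12, .conj 0 [12, 25, 68, 71, 101, 135], .even 0 12, .even 0 10, .conj 6 [13, 40, 52, 74, 94, 134], .even 0 12, .even 0 6, .even 0 8, .conj 0 [13, 40, 50, 71, 99, 142], .even 1 14, .conj 0 [13, 27, 49,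 82, 105, 134], .even 0 14, .conj 8 [5, 40, 53, 81, 91, 156], .even 0 2, .even 1 2, .even 0 8, .even 0 12, .even 0 14, .conj 4 [11, 40, 51, 69, 98, 111], .conj 2 [4, 25, 65, 86, 107, 126], .conj 1 [3, 32, 59, 70, 103, 137], .conj 4 [9, 24, 53, 79, 99, 123], .conj 0 [3, 32, 67, 89, 99, 144], .even 1 14, .even 0 6, .even 0 8, .conj 7 [9, 24, 55, 75, 93, 144], .even 0 14, .even 0 6, .even 0 14, .conj 6 [21, 36, 53, 88, 97, 131], .conj 0 [7, 33, 49, 88, 93, 136], .even 0 12, .conj 5 [7, 28, 55, 69, 98, 133], .even 0 6, .even 0 8, .conj 4 [9, 40, 51, 72, 91, 150], .even 0 6, .even 0 14, .conj 0 [20, 41, 50, 76, 97, 145], .even 0 12, .even 0 10, .even 0 8, .even 0 6, .even 0 2, .even 0 12, .even 0 4, .even 0 8, .even 0 14, .even 0 8, .even 0 10, .even 0 6, .even 0 6, .even 0 14, .conj 0 [20, 28, 53, 78, 106, 157], .conj 5 [22, 24, 63, 69, 96, 145], .conj 0 [15, 24, 57, 86, 101, 157], .even 0 4, .even 0 14,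 .even 0 12, .even 0 12, .conj 0 [15, 24, 66, 87, 109, 120], .even 0 10, .even 0 12, .conj 2 [21, 30, 52, 87, 108, 144], .conj 1 [23, 31, 66, 80, 99, 131], .conj 3 [19, 38, 68, 86, 93, 134], .even 0 4, .even 0 6, .even 0 10, .even 1 14, .even 0 6, .even 1 14, .even 0 6, .even 1 14, .even 0 10, .even 0 6, .even 0 12, .even 0 12, .even 0 12, .even 2 14, .even 0 8, .even 0 6, .even 0 14, .conj 1 [14, 24, 52, 77, 91, 156], .even 0 12]

/-- Chunk. -/
def row5Part19 : List V := [.conj 3 [19, 38, 50, 75, 93, 117], .even 0 14, .even 0 12, .conj 4 [1, 25, 53, 75, 94, 157], .conj 3 [19, 38, 57, 82, 100, 123], .even 0 6, .even 0 4, .even 0 12, .even 0 6, .even 0 10, .conj 8 [22, 24, 68, 84, 100, 144], .even 0 6, .even 0 14, .conj 8 [22, 24, 68, 79, 109, 138], .conj 3 [13, 40, 53, 84, 93, 144], .conj 2 [22, 24, 47, 81, 109, 120], .conj 3 [5, 40, 48, 88, 100, 148], .even 0 12, .even 0 8, .even 0 14, .even 0 6, .even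 0 12, .conj 2 [2, 40, 65, 72, 100, 135], .conj 1 [20, 43, 63, 78, 92, 146], .conj 3 [6, 36, 60, 70, 106, 124], .even 1 14, .even 0 12, .even 0 10, .even 0 10, .even 0 14, .even 0 6, .conj 2 [0, 37, 47, 83, 99, 120], .conj 1 [2, 33, 54, 84, 98, 140], .even 0 12, .even 0 12, .even 0 12, .conj 5 [15, 24, 67, 77, 106, 116], .conj 10 [12, 25, 59, 77, 105, 134], .conj 0 [11, 28, 47, 84, 93, 138], .even 0 4, .conj 7 [9, 24, 55, 89, 92, 111], .conj 0 [12, 25, 47, 80, 93, 149], .even 0 14, .conj 6 [19, 38, 64, 70, 92, 139], .conj 1 [11, 37, 55, 81, 91, 145], .conj 1 [6, 36, 59, 86, 105, 128], .even 0 6, .even 0 8, .conj 0 [13, 40, 54, 86, 105, 129], .conj 9 [22, 24, 68, 81, 106, 117], .conj 9 [19, 38, 61, 69, 109, 130], .even 0 14, .conj 2 [6, 44, 63, 79, 103, 122], .conj 2 [2, 28, 66, 75, 96, 120], .conj 1 [20, 30, 50, 89, 104, 116], .conj 8 [11, 24, 59, 77, 109, 149], .even 0 4, .conj 8 [10, 41, 49, 86, 101,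 124], .conj 9 [22, 24, 52, 79, 93, 148], .conj 8 [1, 25, 61, 83, 98, 148], .even 0 8, .even 1 14, .conj 9 [2, 36, 59, 71, 100, 121], .even 0 2, .even 0 14, .conj 8 [6, 36, 68, 86, 97, 119], .conj 9 [19, 38, 59, 73, 92, 150], .even 0 8, .conj 2 [11, 26, 53, 77, 100, 141], .conj 0 [10, 41, 60, 70, 106, 148], .even 0 4, .conj 2 [8, 25, 53, 82, 102, 157], .conj 1 [10, 26, 65, 75, 97, 112], .even 0 6, .even 0 12, .conj 6 [7, 28, 49, 69, 104, 122], .even 1 14, .even 0 12, .even 0 10, .conj 6 [3, 32, 61, 70, 98, 140], .conj 2 [8, 42, 59, 87, 96, 150], .even 0 12, .even 0 12, .even 0 12, .even 0 12, .conj 4 [20, 41, 63, 76, 99, 134], .even 0 10, .even 1 14, .even 0 12, .conj 4 [14, 24, 50, 83, 93, 134], .even 0 8, .even 1 2, .even 0 10, .conj 3 [2, 36, 49, 83, 109, 116], .conj 4 [10, 41, 50, 87, 109, 150], .conj 2 [9, 24, 62, 74, 96, 121], .even 0 4, .even 0 12, .even 0 8, .conj 0 [14, 24, 63, 82, 109, 149]]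

/-- Chunk. -/
def row5Part20 : List V := [.even 0 10, .even 1 14, .even 0 8, .conj 2 [3, 32, 53, 76, 102, 139], .conj 0 [15, 34, 53, 77, 101, 115], .even 1 14, .even 0 6, .conj 4 [16, 36, 65, 79, 93, 133], .conj 4 [9, 24, 68, 76, 100, 140], .even 1 14, .even 0 12, .even 1 14, .even 0 12, .even 0 6, .even 0 4, .conj 3 [13, 40, 56, 74, 105, 141], .even 0 4, .conj 1 [6, 44, 62, 69, 97, 121], .even 0 8, .even 0 10, .conj 4 [16, 32, 63, 89, 90, 120], .even 0 12, .conj 9 [13, 40, 57, 78, 109, 129], .conj 0 [11, 28, 48, 87, 109, 122], .even 0 8, .conj 6 [5, 40, 67, 79, 108, 152], .even 0 2, .even 1 6, .even 0 4, .conj 1 [2, 36, 54, 83, 90, 116], .conj 5 [14, 24, 62, 82, 107, 154], .even 0 6, .even 0 6, .even 0 6, .conj 2 [17, 27, 48, 86, 90, 115], .even 0 6, .even 0 6, .even 1 6, .conj 2 [21, 36, 55, 69, 93, 144], .conj 1 [23, 43, 60, 73, 98, 150], .even 0 14, .conj 4 [7, 30, 65, 70, 92, 119], .even 0 6,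 .even 0 14, .even 0 6, .even 0 14, .conj 4 [5, 40, 65, 72, 93, 122], .even 0 12, .conj 6 [12, 25, 58, 72, 96, 112], .conj 0 [2, 41, 53, 75, 104, 112], .conj 2 [9, 45, 54, 83, 101, 149], .conj 0 [13, 40, 53, 74, 93, 119], .conj 8 [22, 24, 68, 81, 104, 122], .even 0 14, .even 0 14, .even 0 8, .conj 3 [9, 24, 53, 80, 109, 116], .conj 3 [6, 36, 65, 72, 103, 145], .conj 0 [9, 33, 50, 85, 101, 119], .conj 0 [11, 24, 55, 70, 100, 126], .conj 2 [8, 28, 57, 89, 101, 149], .conj 6 [10, 41, 63, 86, 108, 149], .conj 5 [19, 38, 62, 75, 99, 125], .conj 3 [16, 36, 62, 89, 103, 116], .even 0 12, .even 0 8, .even 0 12, .even 0 2, .conj 0 [4, 25, 60, 71, 109, 151], .conj 2 [8, 39, 64, 73, 97, 134], .conj 2 [22, 24, 47, 77, 98, 153], .even 0 12, .conj 1 [10, 41, 49, 79, 95, 156], .conj 2 [23, 24, 54, 76, 90, 127], .even 0 4, .conj 2 [8, 39, 55, 71, 90, 132], .conj 0 [4, 39, 59, 81, 93, 148], .even 0 6, .conj 4 [8, 25,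 64, 85, 108, 129], .even 0 6, .conj 0 [19, 38, 57, 78, 90, 117], .even 0 12, .even 0 6, .conj 2 [13, 37, 57, 74, 99, 110], .conj 2 [2, 36, 68, 72, 106, 127], .conj 1 [10, 41, 54, 72, 105, 145], .even 0 12, .conj 1 [16, 36, 64, 86, 92, 135], .even 0 4, .even 0 10, .even 0 6, .conj 7 [9, 24, 59, 70, 102, 140], .conj 9 [20, 41, 54, 82, 102, 120], .conj 0 [9, 33, 52, 73, 100, 143], .conj 5 [10, 41, 64, 75, 94, 111], .even 0 10, .conj 6 [11, 24, 49, 73, 109, 150], .even 0 4, .even 1 14, .conj 0 [0, 43, 51, 85, 102, 118]]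

/-- Chunk. -/
def row5Part21 : List V := [.conj 0 [10, 25, 57, 72, 98, 110], .even 0 10, .even 0 14, .even 0 6, .even 0 6, .even 1 2, .even 0 10, .even 0 14, .even 0 12, .even 0 14, .conj 7 [11, 24, 48, 73, 93, 117], .conj 0 [3, 39, 60, 82, 97, 157], .conj 9 [19, 38, 61, 74, 93, 120], .even 0 6, .even 0 8, .even 0 8, .even 0 10, .even 0 6, .even 0 8, .conj 2 [15, 24, 61, 85, 98, 114], .even 0 2, .conj 1 [12, 25, 63, 71, 96, 133], .even 0 4, .conj 8 [5, 40, 61, 69, 107, 123], .conj 5 [3, 32, 47, 77, 97, 144], .even 0 4, .conj 7 [2, 36, 61, 76, 109, 136], .even 0 12, .conj 8 [17, 24, 52, 74, 92, 142], .even 0 6, .conj 0 [7, 28, 56, 85, 96, 129], .conj 1 [8, 25, 66, 71, 92, 116], .even 0 6, .conj 0 [23, 30, 61, 75, 97, 136], .conj 0 [9, 24, 62, 81, 106, 145], .even 0 8, .conj 0 [20, 41, 66, 89, 97, 124], .conj 2 [19, 38, 54, 85, 90, 146], .conj 5 [8, 25, 55, 88, 95, 155], .even 0 10, .conj 7 [9, 24, 61,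 86, 100, 156], .even 0 2, .even 0 10, .even 0 10, .conj 6 [11, 24, 60, 76, 91, 147], .even 0 2, .conj 0 [23, 24, 62, 84, 95, 132], .even 0 4, .even 0 14, .conj 2 [9, 24, 54, 73, 105, 140], .even 0 6, .conj 1 [23, 24, 61, 84, 101, 123], .even 0 14, .conj 1 [14, 27, 68, 69, 91, 157], .conj 3 [2, 36, 61, 80, 96, 110], .even 0 8, .even 0 14, .even 2 8, .conj 8 [4, 38, 59, 81, 101, 122], .conj 7 [8, 28, 49, 88, 99, 122], .even 1 8, .even 1 4, .conj 9 [16, 41, 61, 86, 102, 153], .even 1 8, .conj 8 [16, 41, 61, 70, 94, 151], .conj 0 [4, 33, 66, 82, 97, 143], .even 1 2, .even 1 8, .conj 0 [9, 44, 57, 70, 108, 128], .even 1 8, .conj 0 [4, 33, 66, 86, 92, 146], .conj 1 [21, 33, 64, 78, 108, 120], .even 2 14, .conj 0 [9, 37, 55, 81, 90, 133], .even 1 14, .conj 7 [4, 34, 65, 74, 101, 143], .even 2 6, .conj 0 [10, 43, 66, 82, 102, 120], .conj 9 [4, 43, 61, 72, 90, 136], .even 1 14, .even 1 8, .conj 0 [7, 45, 65,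 72, 91, 157], .even 0 10, .even 2 6, .conj 3 [3, 32, 61, 82, 106, 152], .even 0 12, .conj 3 [16, 36, 57, 71, 109, 119], .conj 0 [16, 36, 59, 79, 101, 144], .conj 3 [2, 36, 54, 77, 107, 120], .even 0 6, .conj 2 [15, 40, 60, 88, 100, 120], .even 0 12, .conj 1 [15, 40, 62, 73, 90, 119], .conj 2 [6, 44, 55, 72, 107, 110], .conj 0 [11, 28, 50, 71, 98, 149], .even 0 12, .conj 1 [17, 37, 56, 73, 98, 132], .conj 1 [3, 32, 56, 71, 93, 144], .even 0 4, .conj 2 [9, 24, 58, 82, 104, 146]]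

/-- Chunk. -/
def row5Part22 : List V := [.conj 9 [1, 25, 49, 89, 98, 130], .even 1 2, .even 1 6, .conj 2 [3, 32, 52, 76, 94, 157], .even 0 12, .even 1 2, .conj 4 [18, 25, 50, 83, 95, 125], .conj 0 [13, 27, 58, 88, 91, 130], .conj 2 [14, 27, 64, 80, 103, 115], .conj 1 [7, 28, 51, 78, 97, 143], .conj 3 [14, 24, 61, 77, 103, 121], .conj 3 [16, 36, 53, 74, 96, 157], .conj 8 [8, 25, 47, 87, 91, 156], .even 0 14, .even 0 14, .even 0 2, .even 0 6, .conj 0 [1, 33, 54, 85, 105, 156], .conj 0 [14, 24, 55, 82, 101, 142], .conj 1 [20, 41, 65, 87, 100, 149], .even 0 6, .conj 2 [9, 24, 60, 71, 109, 147], .conj 3 [11, 24, 67, 72, 96, 140], .even 0 12, .even 0 14, .even 0 12, .conj 2 [7, 28, 63, 85, 94, 110], .even 0 12, .conj 1 [7, 28, 57, 78, 91, 136], .conj 2 [22, 24, 64, 72, 96, 116], .conj 1 [21, 36, 56, 71, 93, 140], .conj 4 [10, 41, 48, 69, 90, 143], .even 0 12, .conj 2 [20, 41, 47, 87, 93, 156], .conj 9 [4,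 25, 68, 87, 107, 140], .even 0 14, .conj 5 [12, 25, 63, 77, 94, 142], .even 0 4, .conj 2 [9, 24, 67, 77, 96, 152], .even 0 10, .even 0 8, .conj 0 [8, 32, 67, 78, 92, 123], .even 0 10, .conj 3 [4, 25, 47, 73, 93, 140], .even 0 6, .conj 9 [22, 24, 52, 79, 96, 114], .even 1 2, .even 0 12, .even 0 12, .even 0 14, .conj 0 [22, 24, 61, 82, 90, 140], .even 0 12, .even 0 14, .even 0 6, .even 0 4, .conj 6 [10, 41, 53, 87, 104, 124], .even 0 6, .conj 4 [16, 36, 57, 89, 91, 146], .conj 6 [20, 41, 68, 77, 105, 120], .even 1 14, .conj 1 [1, 43, 53, 77, 96, 140], .conj 2 [15, 24, 53, 88, 101, 146], .even 0 12, .even 0 12, .conj 6 [2, 36, 66, 87, 91, 124], .conj 8 [18, 25, 65, 89, 98, 122], .even 0 14, .even 0 12, .even 1 14, .even 1 14, .conj 0 [19, 43, 65, 69, 102, 150], .even 0 8, .even 0 12, .conj 0 [7, 33, 66, 77, 101, 154], .conj 0 [19, 38, 68, 73, 107, 152], .conj 6 [9, 24, 66, 84, 97, 119], .even 0 10, .even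 0 10, .conj 11 [22, 24, 64, 81, 94, 149], .even 0 12, .conj 5 [21, 36, 51, 84, 92, 122], .even 0 8, .even 0 6, .even 0 10, .even 0 10, .even 0 12, .even 0 10, .even 0 4, .even 0 12, .even 0 6, .even 0 12, .conj 0 [15, 34, 50, 76, 108, 133], .even 0 14, .even 0 10, .even 0 12, .even 0 12, .even 0 4, .even 1 14, .even 0 8, .even 0 12]

/-- Chunk. -/
def row5Part23 : List V := [.even 0 10, .conj 0 [9, 33, 49, 82, 106, 156], .conj 0 [14, 24, 51, 71, 95, 113], .even 0 10, .even 0 12, .even 0 12, .even 0 2, .even 0 10, .even 0 12, .conj 4 [17, 24, 57, 79, 105, 146], .even 0 2, .conj 1 [5, 40, 59, 80, 90, 114], .conj 5 [10, 41, 59, 71, 102, 119], .conj 6 [14, 24, 68, 79, 96, 121], .even 0 4, .conj 2 [20, 35, 66, 84, 109, 129], .conj 8 [5, 40, 60, 85, 98, 120], .even 0 12, .conj 2 [6, 36, 60, 69, 97, 154], .even 0 14, .even 0 8, .even 0 10, .conj 1 [19, 46, 59, 86, 97, 120], .conj 7 [11, 24, 56, 88, 99, 142],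 .conj 5 [13, 40, 49, 73, 98, 144], .conj 2 [19, 46, 68, 80, 104, 150], .conj 3 [10, 41, 57, 78, 109, 154], .even 0 2, .conj 7 [6, 36, 63, 87, 97, 112], .even 0 14, .conj 0 [9, 24, 47, 78, 95, 142], .even 0 14, .even 0 12, .even 1 14, .conj 9 [6, 36, 51, 82, 90, 147], .even 0 12, .even 1 14, .conj 0 [8, 25, 63, 87, 94, 141], .conj 4 [13, 41, 57, 81, 92, 145], .conj 1 [11, 24, 47, 69, 104, 145], .even 0 10, .conj 2 [22, 24, 52, 76, 95, 118], .conj 5 [8, 25, 47, 72, 108, 114], .even 0 12, .even 0 8, .conj 8 [8, 25, 64, 76, 98, 152], .even 0 14, .conj 2 [8, 25, 61, 70, 97, 134], .conj 1 [3, 32, 47, 83, 105, 117], .even 0 6, .conj 7 [2, 36, 51, 75, 104, 153], .even 0 6, .conj 0 [16, 43, 58, 70, 97, 119], .even 0 8, .even 0 10, .even 0 10, .even 0 4, .even 0 4, .even 1 14, .conj 1 [6, 36, 61, 72, 106, 151], .conj 3 [2, 36, 58, 87, 106, 128], .even 0 14, .even 0 10, .even 0 2, .conj 5 [14, 24, 53, 85, 106,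 135], .even 2 6, .even 1 14, .even 0 8, .even 0 14, .conj 0 [3, 39, 67, 70, 95, 131], .even 0 12, .conj 1 [20, 41, 68, 76, 103, 144], .conj 3 [2, 30, 68, 77, 96, 118], .conj 0 [4, 25, 67, 82, 90, 122], .conj 6 [14, 24, 64, 81, 94, 130], .conj 2 [23, 24, 66, 84, 107, 145], .even 0 12, .even 0 6, .even 1 6, .even 0 4, .conj 7 [23, 24, 60, 79, 95, 152], .conj 9 [10, 41, 64, 69, 98, 122], .conj 0 [10, 25, 63, 75, 94, 150], .conj 1 [1, 43, 58, 80, 105, 125], .even 0 10, .even 0 2, .even 1 14, .even 0 14, .even 0 14, .even 0 14, .conj 0 [13, 40, 67, 82, 106, 140], .conj 0 [0, 43, 62, 76, 99, 113], .conj 5 [16, 36, 47, 69, 109, 148], .even 0 10, .conj 0 [7, 28, 61, 88, 108, 132], .conj 5 [16, 36, 64, 75, 106, 139], .even 0 12, .conj 9 [20, 41, 48, 80, 99, 145], .conj 3 [16, 36, 58, 84, 107, 155], .conj 2 [17, 24, 66, 80, 102, 155]]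

/-- Chunk. -/
def row5Part24 : List V := [.conj 4 [2, 36, 47, 70, 108, 118], .conj 2 [15, 40, 53, 78, 105, 128], .conj 0 [20, 28, 64, 88, 105, 128], .conj 1 [5, 31, 62, 86, 93, 145], .conj 2 [1, 25, 59, 87, 104, 154], .conj 2 [19, 34, 50, 85, 91, 125], .even 0 12, .conj 0 [20, 28, 59, 78, 107, 122], .conj 3 [19, 38, 66, 74, 91, 121], .even 0 8, .even 0 2, .conj 1 [23, 36, 58, 80, 92, 143], .conj 2 [7, 28, 47, 75, 90, 154], .even 1 2, .even 0 2, .even 1 6, .even 0 8, .conj 0 [19, 38, 60, 69, 107, 157], .even 0 12, .even 0 2, .even 0 6, .conj 7 [15, 24, 57, 72, 93, 149], .conj 5 [9, 24, 60, 75, 95, 134], .even 0 8, .even 0 8, .conj 8 [2, 36, 61, 87, 109, 115], .even 0 2, .conj 1 [13, 40, 55, 88, 91, 141], .even 0 6, .even 1 2, .conj 6 [21, 36, 65, 89, 104, 116], .conj 7 [9, 24, 55, 82, 99, 153], .even 1 14, .even 0 8, .conj 0 [13, 27, 53, 84, 91, 137], .even 1 14, .even 0 8, .conj 0 [4, 25, 56, 89, 100,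 129], .conj 6 [5, 40, 53, 74, 104, 137], .even 0 4, .conj 1 [2, 33, 68, 81, 99, 110], .even 0 10, .conj 5 [16, 36, 62, 85, 92, 132], .conj 1 [3, 32, 63, 72, 92, 156], .even 0 12, .conj 5 [5, 40, 65, 76, 100, 127], .conj 1 [8, 25, 55, 87, 98, 118], .conj 8 [8, 25, 48, 69, 96, 150], .conj 2 [7, 28, 65, 81, 98, 140], .even 1 14, .even 0 8, .even 0 6, .even 0 12, .even 0 8, .even 0 8, .conj 2 [20, 31, 59, 69, 99, 133], .conj 4 [1, 24, 47, 78, 106, 112], .even 0 6, .even 2 2, .even 0 6, .conj 4 [8, 25, 51, 82, 97, 135], .even 0 14, .even 0 12, .conj 9 [1, 25, 53, 88, 100, 115], .conj 6 [6, 36, 48, 73, 104, 145], .even 0 8, .conj 0 [16, 36, 50, 69, 96, 114], .conj 2 [12, 28, 53, 82, 98, 117], .even 0 8, .even 0 14, .conj 2 [13, 40, 50, 78, 98, 112], .conj 5 [8, 25, 62, 74, 109, 129], .even 0 10, .even 0 2, .even 2 14, .even 0 2, .even 0 14, .conj 0 [9, 33, 60, 74, 96, 147], .even 0 4, .even 0 8, .conj 6 [21,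 36, 60, 75, 101, 146], .even 0 6, .even 0 14, .conj 7 [13, 40, 58, 73, 98, 113], .conj 0 [3, 32, 61, 84, 105, 114], .even 0 12, .conj 9 [2, 36, 48, 80, 99, 137], .conj 0 [23, 24, 57, 89, 92, 128], .conj 6 [19, 38, 53, 76, 90, 134], .conj 6 [9, 24, 51, 70, 91, 143], .conj 5 [2, 36, 63, 87, 99, 112], .even 0 8, .even 0 8, .even 0 12, .conj 6 [10, 41, 55, 88, 102, 117], .even 0 6, .conj 1 [23, 24, 62, 86, 102, 121], .conj 0 [14, 40, 67, 72, 107, 137], .conj 8 [3, 32, 67, 83, 99, 123], .even 0 14]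

/-- Chunk. -/
def row5Part25 : List V := [.conj 8 [3, 32, 52, 81, 105, 116], .conj 5 [1, 25, 67, 69, 107, 129], .even 0 8, .even 0 14, .conj 0 [14, 40, 66, 87, 93, 110], .conj 0 [1, 25, 53, 81, 94, 124], .even 0 10, .even 0 6, .even 0 8, .conj 4 [19, 38, 50, 72, 97, 154], .even 0 14, .conj 6 [22, 24, 51, 82, 95, 146], .conj 0 [14, 40, 62, 73, 93, 110], .even 0 6, .even 0 14, .conj 2 [14, 24, 56, 83, 105, 119], .even 0 14, .conj 0 [1, 25, 64, 79, 101, 126], .conj 9 [7, 28, 60, 71, 108, 128], .even 0 14, .even 0 6, .even 0 14, .conj 9 [7, 28, 67, 87, 94, 134], .even 1 6, .conj 7 [3, 32, 54, 76, 108, 112], .conj 6 [22, 24, 64, 86, 99, 112], .even 2 6, .conj 5 [1, 25, 53, 75, 95, 155], .conj 8 [3, 32, 53, 84, 100, 146], .even 1 14, .conj 6 [22, 24, 60, 71, 99, 143], .conj 1 [1, 25, 66, 85, 90, 157], .even 0 8, .conj 0 [1, 25, 48, 82, 98, 139], .conj 7 [3, 32, 66, 72, 100, 125], .conj 2 [14, 24, 47, 86,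 107, 144], .even 1 14, .even 0 12, .conj 0 [14, 40, 57, 73, 109, 154], .conj 5 [1, 25, 59, 83, 92, 147], .conj 3 [1, 25, 59, 71, 105, 131], .even 0 12, .even 0 6, .conj 0 [1, 25, 62, 85, 99, 130], .even 0 14, .conj 6 [22, 24, 52, 69, 103, 111], .conj 6 [22, 24, 66, 82, 107, 136], .conj 2 [14, 24, 60, 86, 102, 115], .conj 1 [1, 25, 52, 75, 102, 119], .even 0 14, .conj 5 [1, 25, 61, 80, 108, 126], .even 0 4, .even 2 14, .even 0 10, .even 0 6, .even 0 14, .even 0 6, .even 0 8, .even 0 4, .even 0 12, .even 0 6, .conj 2 [14, 24, 65, 77, 102, 153], .even 0 14, .conj 3 [1, 25, 53, 84, 107, 157], .even 0 12, .even 0 6, .conj 1 [1, 25, 60, 71, 107, 118], .even 0 8, .conj 2 [14, 24, 68, 76, 95, 138], .even 0 14, .even 0 14, .conj 0 [1, 25, 64, 70, 90, 157], .conj 6 [22, 24, 67, 85, 109, 116], .even 0 6, .conj 4 [19, 38, 55, 86, 106, 118], .even 1 14, .conj 2 [23, 31, 66, 88, 98, 118], .even 0 10, .conj 4 [19,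 38, 50, 77, 104, 122], .conj 2 [14, 24, 48, 88, 101, 124], .even 0 6, .conj 0 [1, 25, 64, 74, 95, 133], .conj 1 [21, 30, 51, 88, 109, 122], .conj 6 [22, 24, 60, 76, 93, 117], .conj 8 [3, 32, 66, 76, 108, 145], .conj 2 [23, 31, 68, 73, 106, 145], .conj 3 [21, 35, 68, 86, 92, 119], .conj 2 [5, 31, 49, 78, 101, 135], .even 1 2, .even 0 8, .even 0 12, .even 0 4, .even 0 4, .even 0 12, .conj 3 [1, 25, 62, 79, 105, 142], .even 0 4, .conj 5 [1, 25, 54, 73, 104, 137], .conj 4 [19, 38, 55, 89, 95, 124], .conj 1 [1, 25, 62, 74, 96, 155], .even 0 10]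

/-- Chunk. -/
def row5Part26 : List V := [.conj 0 [1, 25, 52, 84, 106, 141], .even 1 14, .even 0 4, .even 0 12, .even 0 4, .conj 0 [1, 25, 58, 88, 108, 123], .even 1 2, .conj 0 [1, 25, 66, 84, 105, 110], .even 0 14, .even 0 12, .conj 3 [1, 25, 62, 78, 99, 120], .even 0 12, .conj 9 [7, 28, 50, 87, 109, 145], .even 0 14, .conj 4 [19, 38, 61, 78, 93, 113], .conj 0 [1, 25, 57, 89, 97, 142], .even 0 12, .conj 3 [1, 25, 58, 88, 104, 110], .conj 7 [3, 32, 65, 87, 104, 141], .conj 2 [14, 24, 48, 71, 101, 140], .conj 4 [19, 38, 52, 88, 100, 142], .even 0 6, .even 0 14, .even 0 14, .conj 4 [19, 38, 63, 81, 104, 126], .even 0 6, .conj 0 [1, 25, 65, 80, 104, 130], .conj 5 [1, 25, 50, 78, 109, 111], .conj 1 [1, 25, 65, 70, 107, 155], .even 0 8, .conj 0 [1, 25, 63, 79, 100, 142], .even 0 8, .conj 9 [7, 28, 65, 81, 98, 126], .conj 8 [3, 32, 65, 83, 94, 136], .even 0 4, .even 0 14, .conj 2 [14, 24, 68, 76, 101, 127],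 .even 1 14, .even 0 14, .conj 4 [19, 38, 64, 69, 99, 151], .even 0 12, .even 0 8, .conj 3 [1, 25, 48, 83, 94, 127], .even 0 10, .even 0 12, .conj 6 [22, 24, 56, 83, 92, 113], .conj 0 [1, 25, 60, 87, 105, 140], .conj 9 [7, 28, 62, 85, 97, 144], .conj 5 [1, 25, 48, 74, 101, 118], .conj 0 [14, 40, 64, 81, 104, 130], .even 1 14, .conj 6 [22, 24, 65, 82, 103, 144], .even 0 12, .conj 0 [14, 40, 61, 80, 106, 116], .conj 11 [11, 24, 51, 75, 97, 134], .even 0 8, .conj 8 [3, 32, 57, 76, 108, 156], .even 0 6, .conj 0 [14, 40, 67, 74, 103, 135], .conj 4 [19, 38, 60, 77, 100, 144], .conj 6 [22, 24, 50, 79, 105, 155], .even 2 14, .even 0 14, .even 0 10, .even 0 8, .even 0 8, .conj 0 [14, 40, 60, 76, 101, 126], .even 0 8, .conj 7 [3, 32, 57, 73, 101, 145], .even 0 6, .conj 0 [1, 25, 54, 69, 106, 132], .conj 0 [1, 25, 64, 81, 103, 139], .conj 0 [14, 40, 67, 82, 104, 140], .even 0 6, .conj 0 [1, 25, 48, 79, 105, 116],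 .conj 3 [1, 25, 54, 69, 106, 132], .conj 3 [1, 25, 57, 72, 90, 157], .even 0 14, .conj 2 [23, 31, 48, 86, 94, 138], .conj 0 [14, 40, 65, 86, 109, 138], .conj 5 [1, 25, 54, 77, 91, 156], .conj 9 [7, 28, 62, 85, 95, 149], .conj 0 [1, 25, 53, 78, 91, 141], .even 0 14, .even 0 8, .even 0 8, .conj 0 [14, 40, 59, 87, 91, 119], .conj 3 [1, 25, 62, 83, 95, 132], .even 0 6, .even 0 12, .even 0 14, .conj 1 [1, 25, 66, 83, 91, 130], .even 0 14, .conj 4 [19, 24, 60, 86, 100, 131], .conj 0 [19, 38, 66, 69, 109, 138], .conj 2 [14, 27, 48, 73, 91, 116], .conj 3 [22, 24, 61, 86, 92, 120], .even 0 6, .conj 4 [19, 24, 60, 79, 105, 157], .conj 1 [13, 37, 51, 73, 93, 156]]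

/-- Chunk. -/
def row5Part27 : List V := [.even 0 14, .conj 6 [18, 25, 48, 79, 105, 124], .even 0 2, .even 0 8, .conj 1 [22, 24, 56, 83, 94, 117], .conj 1 [2, 36, 56, 70, 109, 148], .conj 0 [21, 45, 49, 77, 101, 137], .even 0 2, .conj 8 [16, 36, 62, 84, 100, 118], .even 0 4, .even 0 2, .conj 1 [6, 44, 48, 89, 106, 147], .conj 5 [8, 25, 68, 77, 105, 129], .conj 9 [19, 38, 68, 72, 99, 150], .even 0 12, .conj 6 [20, 41, 57, 83, 99, 127], .even 0 14, .even 0 2, .even 0 12, .conj 3 [4, 25, 62, 88, 98, 127], .even 1 14, .conj 8 [3, 24, 54, 69, 94, 148], .even 1 8, .even 0 8, .even 0 8, .even 0 10, .even 0 14, .even 0 10, .even 0 14, .even 0 12, .even 0 4, .conj 2 [10, 26, 64, 84, 90, 148], .even 0 12, .even 0 6, .conj 1 [14, 27, 60, 72, 98, 148], .even 0 12, .even 0 8, .conj 0 [4, 25, 62, 76, 91, 110], .conj 0 [23, 24, 59, 69, 107, 138], .even 1 14, .conj 0 [2, 41, 55, 89, 98, 140], .even 1 14, .conj 11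 [20, 41, 56, 82, 94, 133], .conj 0 [2, 36, 56, 80, 94, 145], .conj 1 [1, 26, 52, 72, 100, 144], .conj 7 [21, 36, 54, 84, 93, 154], .conj 2 [16, 36, 52, 78, 98, 114], .conj 1 [4, 25, 62, 69, 91, 123], .even 0 6, .conj 7 [13, 40, 56, 79, 106, 152], .conj 0 [17, 34, 68, 82, 92, 154], .even 0 2, .even 1 14, .even 0 10, .conj 6 [10, 41, 65, 74, 101, 144], .conj 3 [1, 31, 60, 72, 104, 156], .conj 7 [14, 24, 61, 78, 106, 154], .conj 7 [21, 36, 54, 89, 96, 118], .conj 5 [10, 41, 49, 88, 90, 151], .even 0 12, .conj 2 [23, 29, 59, 75, 98, 111], .conj 1 [21, 38, 66, 79, 102, 112], .conj 5 [2, 36, 56, 70, 96, 117], .conj 0 [9, 33, 47, 86, 103, 147], .even 0 2, .even 0 14, .even 0 14, .conj 8 [1, 25, 52, 71, 101, 134], .conj 10 [4, 25, 51, 77, 101, 151], .conj 2 [7, 28, 60, 85, 92, 112], .conj 1 [12, 25, 55, 85, 98, 130], .even 0 6, .conj 2 [19, 38, 57, 77, 102, 114], .even 0 14, .conj 9 [18, 25, 51, 79, 101, 112],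 .even 0 8, .even 0 8, .even 0 14, .even 0 14, .even 0 4, .even 0 14, .conj 9 [22, 24, 60, 71, 91, 153], .even 0 12, .even 0 6, .conj 7 [1, 25, 59, 76, 103, 153], .conj 8 [4, 25, 49, 74, 93, 153], .conj 7 [2, 36, 51, 71, 102, 132], .conj 7 [14, 24, 66, 88, 109, 135], .even 0 4, .conj 7 [10, 41, 49, 72, 96, 133], .even 0 14, .even 1 6, .conj 8 [2, 36, 60, 75, 99, 139], .conj 7 [22, 24, 59, 71, 108, 142], .even 0 12, .even 0 12, .even 0 14, .conj 9 [15, 24, 60, 86, 97, 114], .conj 2 [21, 36, 66, 88, 100, 119], .even 0 6]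

/-- Chunk. -/
def row5Part28 : List V := [.conj 8 [22, 24, 53, 86, 98, 112], .even 0 2, .even 0 14, .conj 1 [5, 40, 55, 70, 101, 123], .conj 2 [13, 40, 51, 82, 92, 135], .conj 8 [11, 24, 63, 73, 107, 121], .conj 8 [11, 34, 59, 77, 106, 117], .conj 1 [15, 26, 47, 86, 95, 139], .even 3 6, .conj 2 [21, 33, 64, 86, 105, 110], .conj 1 [19, 31, 57, 80, 95, 112], .conj 8 [17, 33, 58, 72, 102, 112], .conj 9 [8, 36, 56, 84, 109, 151], .conj 9 [10, 24, 63, 78, 91, 137], .even 1 4, .conj 7 [7, 28, 50, 88, 104, 122], .conj 9 [2, 36, 63, 85, 103, 147], .even 0 14, .conj 2 [21, 36, 52, 72, 105, 124], .conj 1 [12, 25, 64, 79, 108, 114], .conj 1 [13, 40, 61, 80, 98, 136], .even 0 8, .even 0 14, .even 0 6, .conj 8 [16, 36, 47, 81, 97, 129], .even 0 14, .conj 7 [4, 25, 60, 72, 103, 129], .even 0 14, .conj 1 [7, 28, 65, 83, 97, 156], .conj 7 [23, 24, 64, 69, 106, 140], .conj 9 [11, 24, 56, 81, 105, 113], .even 0 4, .conj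 2 [21, 36, 50, 85, 94, 154], .conj 7 [11, 24, 68, 89, 103, 125], .even 0 8, .even 0 2, .even 0 6, .even 0 8, .even 0 12, .conj 1 [15, 24, 52, 76, 90, 154], .even 0 4, .even 0 6, .even 0 8, .conj 2 [23, 24, 52, 69, 95, 143], .conj 7 [21, 36, 57, 82, 109, 113], .even 0 4, .even 0 14, .even 0 4, .even 0 14, .even 0 4, .even 0 6, .conj 7 [21, 36, 48, 76, 103, 134], .even 0 6, .even 0 2, .even 1 6, .even 0 6, .conj 7 [22, 24, 59, 89, 107, 145], .conj 9 [22, 24, 58, 78, 104, 127], .even 0 6, .even 0 6, .even 0 6, .even 0 8, .even 0 2, .even 0 12, .even 0 8, .even 3 6, .even 1 6, .conj 7 [10, 41, 53, 79, 91, 144], .even 0 6, .even 0 6, .even 0 2, .even 0 6, .even 0 6, .even 0 6, .even 0 6, .even 0 4, .even 0 6, .conj 7 [9, 24, 52, 69, 101, 131], .conj 11 [23, 24, 48, 85, 109, 139], .even 0 8, .conj 10 [13, 40, 57, 69, 99, 140], .even 0 4, .even 0 8, .even 0 4, .conj 10 [21, 36, 52, 70, 99, 136], .conj 1 [18,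 25, 51, 85, 105, 125], .even 0 4, .conj 2 [18, 25, 68, 71, 104, 115], .conj 7 [19, 38, 54, 79, 94, 130], .even 0 6, .conj 7 [23, 24, 47, 69, 90, 110], .conj 7 [13, 40, 52, 69, 101, 113]]

/-- Row5. -/
def row5 : List V := row5Part0 ++ row5Part1 ++ row5Part2 ++ row5Part3 ++ row5Part4 ++ row5Part5 ++ row5Part6 ++ row5Part7 ++ row5Part8 ++ row5Part9 ++ row5Part10 ++ row5Part11 ++ row5Part12 ++ row5Part13 ++ row5Part14 ++ row5Part15 ++ row5Part16 ++ row5Part17 ++ row5Part18 ++ row5Part19 ++ row5Part20 ++ row5Part21 ++ row5Part22 ++ row5Part23 ++ row5Part24 ++ row5Part25 ++ row5Part26 ++ row5Part27 ++ row5Part28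

theorem row5_ok : all2 (fun (e : Rep) v => vOk reps conjs (fun q => look e.1 (look (reps.getD 7 0) q)) v) orb1 row5 = true ∧
    (List.range 12).all (fun r => evenIn r row5 || Nat.beq r 10) = true ∧
    (row5.all fun v => match v.code with | none => true | some r => Nat.blt r 12) = true := by
  refine ⟨?_, ?_, ?_⟩ <;> decide +kernel

end CfsgLib.MathieuBlock.D24
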